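import Mathlib

/-!
# Ext against an object with a two-term projective resolution, and Hom in the derived
category between objects placed in degree zero.
-/

universe w w' v u

open CategoryTheory Category Limits Abelian

namespace Helper5.DMod

variable {C : Type u} [Category.{v} C] [Abelian C]

section Res

variable [HasExt.{w} C] {S : ShortComplex C} (hS : S.ShortExact)

include hS in
/-- If `0 → P₁ → P₀ → X → 0` is exact with `P₀`, `P₁` projective then `Extⁿ(X, Y) = 0` for `n ≥ 2`. -/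
lemma ext_eq_zero_of_projective_resolution [Projective S.X₁] [Projective S.X₂] (Y : C) (n : ℕ)
    (x : Ext S.X₃ Y (n + 2)) : x = 0 := by
  have h₂ : (Ext.mk₀ S.g).comp x (zero_add _) = 0 := Ext.eq_zero_of_projective _
  obtain ⟨x₁, hx₁⟩ := Ext.contravariant_sequence_exact₃ hS Y x h₂ (n₀ := n + 1) (by lia)
  rw [← hx₁, Ext.eq_zero_of_projective x₁, Ext.comp_zero]

include hS in
lemma forall_subsingleton_ext_iff [Projective S.X₁] [Projective S.X₂] (Y : C) :
    (∀ n : ℕ, Subsingleton (Ext S.X₃ Y n)) ↔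
      Function.Bijective (fun φ : S.X₂ ⟶ Y => S.f ≫ φ) := by
  have epi_g : Epi S.g := hS.epi_g
  constructor
  · intro h
    constructor
    · intro φ ψ hφψ
      dsimp only at hφψ
      have h0 : S.f ≫ (φ - ψ) = 0 := by rw [Preadditive.comp_sub, hφψ, sub_self]
      have hx : (Ext.mk₀ S.f).comp (Ext.mk₀ (φ - ψ)) (zero_add 0) = 0 := by
        rw [Ext.mk₀_comp_mk₀, h0, Ext.mk₀_zero]
      obtain ⟨x₁, hx₁⟩ := Ext.contravariant_sequence_exact₂ hS Y (Ext.mk₀ (φ - ψ)) hx
      have : x₁ = 0 := (h 0).elim _ _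
      rw [this, Ext.comp_zero] at hx₁
      have h3 : φ - ψ = 0 := by
        rw [← Ext.mk₀_eq_zero_iff]
        exact hx₁.symm
      exact sub_eq_zero.mp h3
    · intro ψ
      have h1 : hS.extClass.comp (Ext.mk₀ ψ) (add_zero 1) = 0 := (h 1).elim _ _
      obtain ⟨x₂, hx₂⟩ := Ext.contravariant_sequence_exact₁ hS Y (Ext.mk₀ ψ) (by lia) h1
      obtain ⟨φ, rfl⟩ := (Ext.mk₀_bijective _ _).2 x₂
      refine ⟨φ, ?_⟩
      dsimp only
      rw [Ext.mk₀_comp_mk₀] at hx₂
      exact (Ext.mk₀_bijective _ _).1 hx₂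
  · intro h n
    refine ⟨fun a b => ?_⟩
    suffices ∀ x : Ext S.X₃ Y n, x = 0 by rw [this a, this b]
    intro x
    match n, x with
    | 0, x =>
      obtain ⟨φ, rfl⟩ := (Ext.mk₀_bijective _ _).2 x
      have h1 : S.f ≫ (S.g ≫ φ) = S.f ≫ 0 := by
        rw [← assoc, S.zero, zero_comp, comp_zero]
      have h2 : S.g ≫ φ = 0 := h.1 h1
      have h3 : φ = 0 := by
        rw [← cancel_epi S.g, h2, comp_zero]
      rw [h3, Ext.mk₀_zero]
    | 1, x =>
      have h₂ : (Ext.mk₀ S.g).comp x (zero_add _) = 0 := Ext.eq_zero_of_projective _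
      obtain ⟨x₁, hx₁⟩ := Ext.contravariant_sequence_exact₃ hS Y x h₂ (n₀ := 0) (by lia)
      obtain ⟨ψ, rfl⟩ := (Ext.mk₀_bijective _ _).2 x₁
      obtain ⟨φ, hφ⟩ := h.2 ψ
      dsimp only at hφ
      rw [← hx₁, ← hφ, ← Ext.mk₀_comp_mk₀, hS.extClass_comp_assoc]
    | n + 2, x => exact ext_eq_zero_of_projective_resolution hS Y n x

end Res

section Derived

open DerivedCategory

variable [HasDerivedCategory.{w} C] [HasExt.{w'} C]

lemma forall_subsingleton_hom_shift_iff (X Y : C) :
    (∀ n : ℤ, Subsingleton ((DerivedCategory.singleFunctor C 0).obj X ⟶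
      ((DerivedCategory.singleFunctor C 0).obj Y)⟦n⟧)) ↔
      ∀ n : ℕ, Subsingleton (Ext.{w'} X Y n) := by
  constructor
  · intro h n
    exact (Ext.homEquiv (X := X) (Y := Y) (n := n)).subsingleton_congr.mpr (h (n : ℤ))
  · intro h n
    by_cases hn : 0 ≤ n
    · obtain ⟨k, rfl⟩ := Int.eq_ofNat_of_zero_le hn
      exact (Ext.homEquiv (X := X) (Y := Y) (n := k)).subsingleton_congr.mp (h k)
    · push Not at hn
      refine ⟨fun a b => ?_⟩
      have : ∀ g : (DerivedCategory.singleFunctor C 0).obj X ⟶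
          ((DerivedCategory.singleFunctor C 0).obj Y)⟦n⟧, g = 0 := by
        intro g
        have : TStructure.t.IsGE (((DerivedCategory.singleFunctor C 0).obj Y)⟦n⟧) (-n) :=
          TStructure.t.isGE_shift _ 0 n (-n) (by lia)
        exact TStructure.t.zero g 0 (-n) (by lia)
      rw [this a, this b]

end Derived

end Helper5.DMod
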