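import Mathlib

/-!
# The two-term free resolution of `A_f`
-/

universe u

open Finsupp

namespace Helper5.DMod

variable {A : Type u} [CommRing A] (f : A)

/-- `d : A^(ℕ) → A^(ℕ)`, `e_i ↦ e_i - f e_{i+1}`. -/
noncomputable def dF : (ℕ →₀ A) →ₗ[A] (ℕ →₀ A) :=
  LinearMap.id - f • Finsupp.lmapDomain A A Nat.succ

/-- `π : A^(ℕ) → A_f`, `e_i ↦ 1 / f^i`. -/
noncomputable def piF : (ℕ →₀ A) →ₗ[A] Localization.Away f :=
  Finsupp.lift (Localization.Away f) A ℕ
    (fun i => IsLocalization.Away.invSelf (S := Localization.Away f) f ^ i)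

/-- The operator `(m_i) ↦ (m_i - f m_{i+1})` on sequences. -/
def Phi (M : Type*) [AddCommGroup M] [Module A M] : (ℕ → M) →ₗ[A] (ℕ → M) where
  toFun m i := m i - f • m (i + 1)
  map_add' m m' := by ext i; simp only [Pi.add_apply, smul_add]; abel
  map_smul' a m := by
    ext i; simp only [Pi.smul_apply, RingHom.id_apply, smul_sub]; rw [smul_comm]

@[simp] lemma Phi_apply (M : Type*) [AddCommGroup M] [Module A M] (m : ℕ → M) (i : ℕ) :
    Phi f M m i = m i - f • m (i + 1) := rfl

lemma dF_single (i : ℕ) (a : A) : dF f (single i a) = single i a - single (i + 1) (f * a) := by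
  simp [dF, Finsupp.lmapDomain_apply, Finsupp.mapDomain_single]

lemma piF_single (i : ℕ) (a : A) :
    piF f (single i a) = a • IsLocalization.Away.invSelf (S := Localization.Away f) f ^ i := by
  simp [piF]

lemma piF_comp_dF : piF f ∘ₗ dF f = 0 := by
  apply Finsupp.lhom_ext
  intro i a
  have hinv := IsLocalization.Away.mul_invSelf (S := Localization.Away f) f
  rw [LinearMap.comp_apply, dF_single, map_sub, piF_single, piF_single, LinearMap.zero_apply,
    pow_succ, sub_eq_zero, Algebra.smul_def, Algebra.smul_def, map_mul]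
  linear_combination (-(algebraMap A (Localization.Away f) a *
    IsLocalization.Away.invSelf (S := Localization.Away f) f ^ i)) * hinv

lemma piF_dF (x : ℕ →₀ A) : piF f (dF f x) = 0 :=
  LinearMap.congr_fun (piF_comp_dF f) x

lemma dF_apply_zero (x : ℕ →₀ A) : dF f x 0 = x 0 := by
  simp only [dF, LinearMap.sub_apply, LinearMap.id_coe, id_eq, LinearMap.smul_apply,
    lmapDomain_apply, coe_sub, coe_smul, Pi.sub_apply, Pi.smul_apply, smul_eq_mul]
  rw [Finsupp.mapDomain_of_notMem_range _ _ (by simp), mul_zero, sub_zero]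

lemma dF_apply_succ (x : ℕ →₀ A) (i : ℕ) : dF f x (i + 1) = x (i + 1) - f * x i := by
  simp only [dF, LinearMap.sub_apply, LinearMap.id_coe, id_eq, LinearMap.smul_apply,
    lmapDomain_apply, coe_sub, coe_smul, Pi.sub_apply, Pi.smul_apply, smul_eq_mul]
  rw [show i + 1 = Nat.succ i from rfl, Finsupp.mapDomain_apply Nat.succ_injective]

lemma dF_injective : Function.Injective (dF f) := by
  rw [← LinearMap.ker_eq_bot, LinearMap.ker_eq_bot']
  intro x hx
  ext i
  induction i with
  | zero => rw [← dF_apply_zero f x, hx]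
  | succ i ih =>
    have := dF_apply_succ f x i
    rw [hx, ih] at this
    simp only [coe_zero, Pi.zero_apply, mul_zero, sub_zero] at this
    rw [← this]; rfl

lemma piF_surjective : Function.Surjective (piF f) := by
  intro y
  obtain ⟨n, a, h⟩ := IsLocalization.Away.surj f y
  refine ⟨single n a, ?_⟩
  have hinv := IsLocalization.Away.mul_invSelf (S := Localization.Away f) f
  rw [piF_single, Algebra.smul_def, ← h, mul_assoc, ← mul_pow, hinv, one_pow, mul_one]

lemma single_sub_single_mem_range (i k : ℕ) (a : A) :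
    single i a - single (i + k) (f ^ k * a) ∈ LinearMap.range (dF f) := by
  induction k with
  | zero => simp
  | succ k ih =>
    have h1 : single (i + k) (f ^ k * a) - single (i + k + 1) (f * (f ^ k * a)) ∈
        LinearMap.range (dF f) := ⟨_, dF_single f _ _⟩
    have := add_mem ih h1
    rw [sub_add_sub_cancel] at this
    rw [pow_succ', mul_assoc]
    exact this

lemma exists_single_sub_mem_range (x : ℕ →₀ A) :
    ∃ N : ℕ, ∀ n, N ≤ n → ∃ c : A, x - single n c ∈ LinearMap.range (dF f) := by
  induction x using Finsupp.induction_linear with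
  | zero => exact ⟨0, fun n _ => ⟨0, by simp⟩⟩
  | add x y hx hy =>
    obtain ⟨N₁, h₁⟩ := hx
    obtain ⟨N₂, h₂⟩ := hy
    refine ⟨max N₁ N₂, fun n hn => ?_⟩
    obtain ⟨c₁, hc₁⟩ := h₁ n (le_trans (le_max_left _ _) hn)
    obtain ⟨c₂, hc₂⟩ := h₂ n (le_trans (le_max_right _ _) hn)
    refine ⟨c₁ + c₂, ?_⟩
    have := add_mem hc₁ hc₂
    rw [single_add]
    convert this using 1
    abel
  | single i a =>
    refine ⟨i, fun n hn => ⟨f ^ (n - i) * a, ?_⟩⟩
    have := single_sub_single_mem_range f i (n - i) a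
    rwa [Nat.add_sub_cancel' hn] at this

lemma ker_piF_le_range_dF : LinearMap.ker (piF f) ≤ LinearMap.range (dF f) := by
  intro x hx
  rw [LinearMap.mem_ker] at hx
  obtain ⟨N, hN⟩ := exists_single_sub_mem_range f x
  obtain ⟨c, hc⟩ := hN N le_rfl
  obtain ⟨y, hy⟩ := hc
  have h1 : piF f (single N c) = 0 := by
    have : single N c = x - dF f y := by rw [hy]; abel
    rw [this, map_sub, hx, piF_dF, sub_zero]
  have h2 : algebraMap A (Localization.Away f) c = 0 := by
    rw [piF_single, Algebra.smul_def] at h1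
    have := congrArg (fun z => z * (algebraMap A (Localization.Away f) f) ^ N) h1
    simp only [zero_mul] at this
    rwa [mul_assoc, ← mul_pow, mul_comm _ (algebraMap A _ f), IsLocalization.Away.mul_invSelf,
      one_pow, mul_one] at this
  obtain ⟨⟨_, m, rfl⟩, hm⟩ := (IsLocalization.map_eq_zero_iff (Submonoid.powers f) _ c).mp h2
  have h3 := single_sub_single_mem_range f N m c
  simp only at hm
  rw [hm, single_zero, sub_zero] at h3
  have : x = dF f y + single N c := by rw [hy]; abel
  rw [this]
  exact add_mem ⟨y, rfl⟩ h3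

lemma range_dF_eq_ker_piF : LinearMap.range (dF f) = LinearMap.ker (piF f) :=
  le_antisymm (by rintro _ ⟨y, rfl⟩; exact piF_dF f y) (ker_piF_le_range_dF f)

/-- Under `Hom(A^(ℕ), M) = M^ℕ`, precomposition with `dF` is `Phi`. -/
lemma lift_comp_dF (M : Type*) [AddCommGroup M] [Module A M] (m : ℕ → M) :
    (Finsupp.lift M A ℕ m) ∘ₗ dF f = Finsupp.lift M A ℕ (Phi f M m) := by
  apply Finsupp.lhom_ext
  intro i a
  rw [LinearMap.comp_apply, dF_single, map_sub, Finsupp.lift_apply, Finsupp.lift_apply,
    Finsupp.lift_apply, Finsupp.sum_single_index (by rw [zero_smul]),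
    Finsupp.sum_single_index (by rw [zero_smul]), Finsupp.sum_single_index (by rw [zero_smul]),
    Phi_apply, smul_sub, mul_smul, smul_comm]

end Helper5.DMod
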