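import Mathlib
import Groth.Prelude.Def_DRing3
import Groth.Agent.Lib.Helper5.DMod.ExtRes
import Groth.Agent.Lib.Helper5.DMod.LocRes

universe u

open CategoryTheory Abelian

attribute [local instance] HasDerivedCategory.standard

namespace Helper5.DMod

variable {A : Type u} [CommRing A] (f : A)

/-- The short complex `0 → A^(ℕ) → A^(ℕ) → A_f → 0` in `ModuleCat A`. -/
noncomputable def locSC : ShortComplex (ModuleCat.{u} A) :=
  ShortComplex.mk (ModuleCat.ofHom (dF f)) (ModuleCat.ofHom (piF f))
    (by rw [← ModuleCat.ofHom_comp, piF_comp_dF]; rfl)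

lemma locSC_shortExact : (locSC f).ShortExact where
  exact := by
    rw [ShortComplex.moduleCat_exact_iff_range_eq_ker]
    exact range_dF_eq_ker_piF f
  mono_f := (ModuleCat.mono_iff_injective _).2 (dF_injective f)
  epi_g := (ModuleCat.epi_iff_surjective _).2 (piF_surjective f)

instance : Projective (locSC f).X₁ :=
  ModuleCat.projective_of_free (Finsupp.basisSingleOne (R := A) (ι := ℕ))

instance : Projective (locSC f).X₂ :=
  ModuleCat.projective_of_free (Finsupp.basisSingleOne (R := A) (ι := ℕ))

/-- `M^ℕ ≃ Hom(A^(ℕ), M)` in `ModuleCat`. -/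
noncomputable def seqEquiv (M : Type u) [AddCommGroup M] [Module A M] :
    (ℕ → M) ≃ (ModuleCat.of A (ℕ →₀ A) ⟶ ModuleCat.of A M) :=
  (Finsupp.lift M A ℕ).toEquiv.trans
    (ModuleCat.homEquiv (M := ModuleCat.of A (ℕ →₀ A)) (N := ModuleCat.of A M)).symm

lemma seqEquiv_Phi (M : Type u) [AddCommGroup M] [Module A M] (m : ℕ → M) :
    (locSC f).f ≫ seqEquiv M m = seqEquiv M (Phi f M m) := by
  apply ModuleCat.hom_ext
  have := lift_comp_dF f M m
  exact this

/-- The module `M` has no nonzero morphism from `A_f` to any shift in the derived category iff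
`(m_i) ↦ (m_i - f m_{i+1})` is bijective on `M^ℕ`. -/
theorem forall_subsingleton_iff_bijective_Phi (M : Type u) [AddCommGroup M] [Module A M] :
    (∀ n : ℤ, Subsingleton (Dual.inD A (Localization.Away f) ⟶ (Dual.inD A M)⟦n⟧)) ↔
      Function.Bijective (Phi f M) := by
  have := HasExt.standard (ModuleCat.{u} A)
  have h1 := forall_subsingleton_hom_shift_iff (C := ModuleCat.{u} A)
    (ModuleCat.of A (Localization.Away f)) (ModuleCat.of A M)
  have h2 : (∀ n : ℕ, Subsingleton (Ext (ModuleCat.of A (Localization.Away f)) (ModuleCat.of A M) n)) ↔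
      Function.Bijective (fun φ : (ModuleCat.of A (ℕ →₀ A) ⟶ ModuleCat.of A M) =>
        ModuleCat.ofHom (dF f) ≫ φ) :=
    forall_subsingleton_ext_iff (locSC_shortExact f) (ModuleCat.of A M)
  rw [h1]
  refine h2.trans ?_
  have hcomp : (fun φ : (ModuleCat.of A (ℕ →₀ A) ⟶ ModuleCat.of A M) =>
      ModuleCat.ofHom (dF f) ≫ φ) ∘ seqEquiv M = seqEquiv M ∘ Phi f M := by
    funext m
    exact seqEquiv_Phi f M m
  constructor
  · intro hb
    have h3 : Function.Bijective (seqEquiv (A := A) M ∘ Phi f M) := by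
      rw [← hcomp]; exact hb.comp (seqEquiv (A := A) M).bijective
    exact (Function.Bijective.of_comp_iff' (seqEquiv (A := A) M).bijective _).mp h3
  · intro hb
    have h3 : Function.Bijective ((fun φ : (ModuleCat.of A (ℕ →₀ A) ⟶ ModuleCat.of A M) =>
        ModuleCat.ofHom (dF f) ≫ φ) ∘ seqEquiv M) := by
      rw [hcomp]; exact (seqEquiv (A := A) M).bijective.comp hb
    exact (Function.Bijective.of_comp_iff _ (seqEquiv (A := A) M).bijective).mp h3

theorem isDerivedComplete_inD_iff (I : Ideal A) (M : Type u) [AddCommGroup M] [Module A M] :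
    DRing.IsDerivedComplete I (Dual.inD A M) ↔ ∀ f ∈ I, Function.Bijective (Phi f M) := by
  constructor
  · intro h f hf
    exact (forall_subsingleton_iff_bijective_Phi f M).mp (h f hf)
  · intro h f hf
    exact (forall_subsingleton_iff_bijective_Phi f M).mpr (h f hf)

end Helper5.DMod
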