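import Mathlib
import Groth.Agent.Lib.Helper5.DMod.LocRes

/-!
# Derived `f`-complete modules in concrete form

`DC f M` : the operator `(m_i) ↦ (m_i - f m_{i+1})` on `M^ℕ` is bijective.
-/

universe u v

namespace Helper5.DMod

variable {A : Type u} [CommRing A]

/-- `M` is derived `f`-complete (concrete form). -/
def DC (f : A) (M : Type*) [AddCommGroup M] [Module A M] : Prop :=
  Function.Bijective (Phi f M)

section basic

variable {f : A} {M : Type*} [AddCommGroup M] [Module A M]
  {N : Type*} [AddCommGroup N] [Module A N]

lemma Phi_injective_iff :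
    Function.Injective (Phi f M) ↔ ∀ x : ℕ → M, (∀ i, x i = f • x (i + 1)) → x = 0 := by
  rw [← LinearMap.ker_eq_bot, LinearMap.ker_eq_bot']
  constructor
  · intro h x hx
    apply h
    ext i
    rw [Phi_apply, ← hx i, sub_self]; rfl
  · intro h x hx
    apply h
    intro i
    have := congrFun hx i
    rw [Phi_apply] at this
    exact sub_eq_zero.mp this

lemma Phi_comp (u : M →ₗ[A] N) (m : ℕ → M) :
    Phi f N (fun i => u (m i)) = fun i => u (Phi f M m i) := by
  ext i
  simp only [Phi_apply, map_sub, map_smul]

/-- Transfer along a linear equivalence. -/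
lemma DC.of_equiv (h : DC f M) (e : M ≃ₗ[A] N) : DC f N := by
  constructor
  · rw [Phi_injective_iff]
    intro x hx
    have : (fun i => e.symm (x i)) = 0 := by
      apply (Phi_injective_iff.mp h.1)
      intro i
      show e.symm (x i) = f • e.symm (x (i + 1))
      rw [← map_smul, ← hx i]
    ext i
    have := congrFun this i
    simpa using this
  · intro n
    obtain ⟨x, hx⟩ := h.2 (fun i => e.symm (n i))
    refine ⟨fun i => e (x i), ?_⟩
    refine (Phi_comp (f := f) (e : M →ₗ[A] N) x).trans ?_
    rw [hx]
    ext i
    simp

/-- The kernel of a map from a derived complete module to a module on which `Phi` is injective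
is derived complete. -/
lemma DC.ker (hM : DC f M) (hN : Function.Injective (Phi f N)) (u : M →ₗ[A] N) :
    DC f (LinearMap.ker u) := by
  constructor
  · rw [Phi_injective_iff]
    intro x hx
    have : (fun i => (x i : M)) = 0 := by
      apply (Phi_injective_iff.mp hM.1)
      intro i
      rw [hx i]; rfl
    ext i
    exact congrFun this i
  · intro k
    obtain ⟨x, hx⟩ := hM.2 (fun i => (k i : M))
    have hux : (fun i => u (x i)) = 0 := by
      apply hN
      rw [Phi_comp u, hx, map_zero]
      ext i
      exact (k i).2
    refine ⟨fun i => ⟨x i, congrFun hux i⟩, ?_⟩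
    ext i
    have := congrFun hx i
    simpa using this

/-- Quotient of a derived complete module by a derived complete submodule. -/
lemma DC.quotient (hM : DC f M) (P : Submodule A M) (hP : DC f P) : DC f (M ⧸ P) := by
  constructor
  · rw [Phi_injective_iff]
    intro y hy
    choose x hx using fun i => Submodule.Quotient.mk_surjective P (y i)
    have hk : ∀ i, Phi f M x i ∈ P := by
      intro i
      rw [← Submodule.Quotient.mk_eq_zero P, Phi_apply, Submodule.Quotient.mk_sub,
        Submodule.Quotient.mk_smul, hx, hx, ← hy i, sub_self]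
    obtain ⟨k, hk'⟩ := hP.2 (fun i => ⟨Phi f M x i, hk i⟩)
    have : x = fun i => (k i : M) := by
      apply hM.1
      refine Eq.trans ?_ (Phi_comp (f := f) P.subtype k).symm
      rw [hk']
      rfl
    ext i
    rw [← hx i, this]
    simp
  · intro n
    choose m hm using fun i => Submodule.Quotient.mk_surjective P (n i)
    obtain ⟨x, hx⟩ := hM.2 m
    refine ⟨fun i => Submodule.Quotient.mk (x i), ?_⟩
    refine (Phi_comp (f := f) P.mkQ x).trans ?_
    rw [hx]
    ext i
    exact hm i

/-- Extensions of derived complete modules are derived complete. -/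
lemma DC.of_sub_of_quotient (P : Submodule A M) (hP : DC f P) (hQ : DC f (M ⧸ P)) : DC f M := by
  constructor
  · rw [Phi_injective_iff]
    intro x hx
    have h1 : (fun i => (Submodule.Quotient.mk (x i) : M ⧸ P)) = 0 := by
      apply (Phi_injective_iff.mp hQ.1)
      intro i
      rw [← Submodule.Quotient.mk_smul, ← hx i]
    have h2 : ∀ i, x i ∈ P := fun i => (Submodule.Quotient.mk_eq_zero P).mp (congrFun h1 i)
    have h3 : (fun i => (⟨x i, h2 i⟩ : P)) = 0 := by
      apply (Phi_injective_iff.mp hP.1)
      intro i
      ext
      exact hx i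
    ext i
    exact congrArg Subtype.val (congrFun h3 i)
  · intro m
    obtain ⟨y, hy⟩ := hQ.2 (fun i => Submodule.Quotient.mk (m i))
    choose x hx using fun i => Submodule.Quotient.mk_surjective P (y i)
    have hk : ∀ i, m i - Phi f M x i ∈ P := by
      intro i
      rw [← Submodule.Quotient.mk_eq_zero P, Submodule.Quotient.mk_sub, Phi_apply,
        Submodule.Quotient.mk_sub, Submodule.Quotient.mk_smul, hx, hx]
      have := congrFun hy i
      rw [Phi_apply] at this
      rw [this, sub_self]
    obtain ⟨k, hk'⟩ := hP.2 (fun i => ⟨m i - Phi f M x i, hk i⟩)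
    refine ⟨fun i => x i + k i, ?_⟩
    ext i
    have := congrArg Subtype.val (congrFun hk' i)
    simp only [Phi_apply, Submodule.coe_sub, Submodule.coe_smul] at this
    simp only [Phi_apply, smul_add]
    have e1 : (x i + (k i : M)) - (f • x (i + 1) + f • (k (i + 1) : M)) =
        (x i - f • x (i + 1)) + ((k i : M) - f • (k (i + 1) : M)) := by abel
    rw [e1, this]
    abel

lemma DC.range (hM : DC f M) (hN : Function.Injective (Phi f N)) (u : M →ₗ[A] N) :
    DC f (LinearMap.range u) :=
  (hM.quotient _ (hM.ker hN u)).of_equiv u.quotKerEquivRange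

lemma DC.coker (hM : DC f M) (hN : DC f N) (u : M →ₗ[A] N) :
    DC f (N ⧸ LinearMap.range u) :=
  hN.quotient _ (hM.range hN.1 u)

lemma DC.pi {ι : Type*} (hM : DC f M) : DC f (ι → M) := by
  constructor
  · rw [Phi_injective_iff]
    intro x hx
    ext i j
    have : (fun i => x i j) = 0 := by
      apply (Phi_injective_iff.mp hM.1)
      intro i
      exact congrFun (hx i) j
    exact congrFun this i
  · intro m
    choose x hx using fun j => hM.2 (fun i => m i j)
    refine ⟨fun i j => x j i, ?_⟩
    ext i j
    exact congrFun (hx j) i

/-- If `f` acts surjectively on a module on which `Phi f` is injective, the module is zero. -/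
lemma subsingleton_of_smul_surjective (h : Function.Injective (Phi f M))
    (hs : Function.Surjective (fun m : M => f • m)) : Subsingleton M := by
  refine ⟨fun a b => ?_⟩
  suffices ∀ m : M, m = 0 by rw [this a, this b]
  intro m
  choose g hg using hs
  let x : ℕ → M := fun i => Nat.rec m (fun _ y => g y) i
  have hx : ∀ i, x i = f • x (i + 1) := fun i => (hg (x i)).symm
  have := Phi_injective_iff.mp h x hx
  exact congrFun this 0

end basic

end Helper5.DMod
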