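import Mathlib

/-!
# Morphisms in the derived category from a projective object placed in degree zero
-/

universe w v u

open CategoryTheory Category Limits HomologicalComplex

namespace Helper5.DMod

variable {C : Type u} [Category.{v} C] [Abelian C]

section chain

variable (P : C) (L : CochainComplex C ℤ)

/-- The map to cycles induced by a morphism from a single complex. -/
noncomputable def cyc (φ : (single C (ComplexShape.up ℤ) 0).obj P ⟶ L) : P ⟶ L.cycles 0 :=
  L.liftCycles ((singleObjXSelf (ComplexShape.up ℤ) 0 P).inv ≫ φ.f 0) 1 (by simp) (by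
    rw [assoc, φ.comm 0 1, single_obj_d, zero_comp, comp_zero])

@[reassoc (attr := simp)]
lemma cyc_iCycles (φ : (single C (ComplexShape.up ℤ) 0).obj P ⟶ L) :
    cyc P L φ ≫ L.iCycles 0 = (singleObjXSelf (ComplexShape.up ℤ) 0 P).inv ≫ φ.f 0 := by
  simp [cyc]

/-- chain-level evaluation `Hom(P[0], L) → Hom(P, H⁰ L)` -/
noncomputable def evC (φ : (single C (ComplexShape.up ℤ) 0).obj P ⟶ L) : P ⟶ L.homology 0 :=
  (singleObjHomologySelfIso (ComplexShape.up ℤ) 0 P).inv ≫ homologyMap φ 0

lemma evC_eq (φ : (single C (ComplexShape.up ℤ) 0).obj P ⟶ L) :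
    evC P L φ = cyc P L φ ≫ L.homologyπ 0 := by
  unfold evC
  rw [← singleObjCyclesSelfIso_inv_homologyπ, assoc, homologyπ_naturality, ← assoc]
  congr 1
  rw [← cancel_mono (L.iCycles 0), assoc, cyclesMap_i, singleObjCyclesSelfIso_inv_iCycles_assoc,
    cyc_iCycles]

variable {P L}

lemma exists_evC_eq [Projective P] (ψ : P ⟶ L.homology 0) :
    ∃ φ : (single C (ComplexShape.up ℤ) 0).obj P ⟶ L, evC P L φ = ψ := by
  let ψ' : P ⟶ L.cycles 0 := Projective.factorThru ψ (L.homologyπ 0)
  have hψ' : ψ' ≫ L.homologyπ 0 = ψ := Projective.factorThru_comp _ _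
  let φ : (single C (ComplexShape.up ℤ) 0).obj P ⟶ L :=
    mkHomFromSingle (ψ' ≫ L.iCycles 0) (by
      rintro k hk
      rw [assoc, iCycles_d, comp_zero])
  refine ⟨φ, ?_⟩
  rw [evC_eq, ← hψ']
  congr 1
  rw [← cancel_mono (L.iCycles 0), cyc_iCycles, mkHomFromSingle_f, Iso.inv_hom_id_assoc]

/-- If the evaluation vanishes, the morphism factors through the differential. -/
lemma exists_comp_d_eq [Projective P] (φ : (single C (ComplexShape.up ℤ) 0).obj P ⟶ L)
    (h : evC P L φ = 0) :
    ∃ g : P ⟶ L.X (-1), g ≫ L.d (-1) 0 = (singleObjXSelf (ComplexShape.up ℤ) 0 P).inv ≫ φ.f 0 := by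
  rw [evC_eq] at h
  have hex : (ShortComplex.mk (L.toCycles (-1) 0) (L.homologyπ 0) (by simp)).Exact := by
    apply ShortComplex.exact_of_g_is_cokernel
    exact L.homologyIsCokernel (-1) 0 (by simp)
  refine ⟨hex.liftFromProjective (cyc P L φ) h, ?_⟩
  have := hex.liftFromProjective_comp (cyc P L φ) h
  dsimp at this
  rw [← cyc_iCycles]
  conv_rhs => rw [← this]
  rw [assoc, toCycles_i]

end chain

end Helper5.DMod

namespace Helper5.DMod

open CochainComplex.HomComplex

variable {C : Type u} [Category.{v} C] [Abelian C]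

section homotopy

variable {P : C} {L : CochainComplex C ℤ}

set_option backward.isDefEq.respectTransparency false in
/-- A morphism from `P[0]` whose degree-zero component factors through the differential is
null-homotopic. -/
lemma nonempty_homotopy_zero (φ : (CochainComplex.singleFunctor C 0).obj P ⟶ L)
    (g : P ⟶ L.X (-1))
    (hg : g ≫ L.d (-1) 0 = (singleObjXSelf (ComplexShape.up ℤ) 0 P).inv ≫ φ.f 0) :
    Nonempty (Homotopy φ 0) := by
  refine ⟨(Cochain.equivHomotopy φ 0).symm
    ⟨Cochain.fromSingleMk (p := 0) (q := -1) g (n := -1) (by simp), ?_⟩⟩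
  rw [Cochain.ofHom_zero, add_zero,
    Cochain.δ_fromSingleMk (p := 0) (q := -1) g (n := -1) (by simp) 0 0 (by simp), hg]
  apply (Cochain.fromSingleEquiv (X := P) (K := L) (p := 0) (q := 0) (n := 0) (by simp)).injective
  rw [Cochain.fromSingleEquiv_fromSingleMk]
  simp [Cochain.fromSingleEquiv]

end homotopy

end Helper5.DMod

namespace Helper5.DMod

open DerivedCategory

variable {C : Type u} [Category.{v} C] [Abelian C] [HasDerivedCategory.{w} C]

section derived

variable {P : C}

/-- `Q.map` is surjective on morphisms out of `P[0]` for `P` projective. -/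
lemma exists_Q_map_eq [Projective P] (L : CochainComplex C ℤ)
    (α : Q.obj ((CochainComplex.singleFunctor C 0).obj P) ⟶ Q.obj L) :
    ∃ φ : (CochainComplex.singleFunctor C 0).obj P ⟶ L, α = Q.map φ := by
  obtain ⟨K, _, π, h, g, rfl⟩ := right_fac_of_isStrictlyLE α 0
  have hπ : IsSplitEpi π := by
    rw [isIso_Q_map_iff_quasiIso] at h
    exact CochainComplex.isSplitEpi_to_singleFunctor_obj_of_projective π
  have h₁ : inv (Q.map π) = Q.map (section_ π) := by
    rw [← cancel_mono (Q.map π), IsIso.inv_hom_id, ← Q.map_comp, IsSplitEpi.id, Q.map_id]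
  exact ⟨section_ π ≫ g, by rw [h₁, Q.map_comp]⟩

lemma Q_map_eq_zero_of_homotopy {K L : CochainComplex C ℤ} (φ : K ⟶ L) (h : Homotopy φ 0) :
    (Q.map φ : Q.obj K ⟶ Q.obj L) = 0 := by
  have h1 : (HomotopyCategory.quotient C (ComplexShape.up ℤ)).map φ = 0 := by
    rw [HomotopyCategory.eq_of_homotopy φ 0 h, Functor.map_zero]
  have h2 := (quotientCompQhIso C).hom.naturality φ
  dsimp at h2
  rw [h1, Functor.map_zero, zero_comp] at h2
  rw [← cancel_epi ((quotientCompQhIso C).hom.app K), ← h2, comp_zero]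

variable (P)

/-- The evaluation `Hom_D(P[0], X) → Hom(P, H⁰ X)`. -/
noncomputable def evD (X : DerivedCategory C)
    (α : (DerivedCategory.singleFunctor C 0).obj P ⟶ X) : P ⟶ (homologyFunctor C 0).obj X :=
  (singleFunctorCompHomologyFunctorIso C 0).inv.app P ≫ (homologyFunctor C 0).map α

variable {P}

lemma evD_naturality {P' : C} (u : P' ⟶ P) (X : DerivedCategory C)
    (α : (DerivedCategory.singleFunctor C 0).obj P ⟶ X) :
    evD P' X ((DerivedCategory.singleFunctor C 0).map u ≫ α) = u ≫ evD P X α := by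
  unfold evD
  rw [Functor.map_comp, ← assoc, ← assoc]
  congr 1
  exact ((singleFunctorCompHomologyFunctorIso C 0).inv.naturality u).symm

lemma evD_comp {X Y : DerivedCategory C} (α : (DerivedCategory.singleFunctor C 0).obj P ⟶ X)
    (e : X ⟶ Y) : evD P Y (α ≫ e) = evD P X α ≫ (homologyFunctor C 0).map e := by
  unfold evD
  rw [Functor.map_comp, assoc]

set_option backward.isDefEq.respectTransparency false in
lemma sFCHFI_inv_app (P : C) :
    (singleFunctorCompHomologyFunctorIso C 0).inv.app P =
      (singleObjHomologySelfIso (ComplexShape.up ℤ) 0 P).inv ≫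
        (homologyFunctorFactors C 0).inv.app ((CochainComplex.singleFunctor C 0).obj P) := by
  simp [singleFunctorCompHomologyFunctorIso, singleFunctorsPostcompQIso_inv_hom]
  erw [CategoryTheory.Functor.map_id, comp_id]

/-- `H⁰(Q L) ≅ H⁰(L)` with convenient types. -/
noncomputable def iotaL (L : CochainComplex C ℤ) :
    (DerivedCategory.homologyFunctor C 0).obj (Q.obj L) ≅ L.homology 0 :=
  (homologyFunctorFactors C 0).app L

set_option backward.isDefEq.respectTransparency false in
lemma evD_Q_map (L : CochainComplex C ℤ) (φ : (CochainComplex.singleFunctor C 0).obj P ⟶ L) :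
    evD P (Q.obj L) (Q.map φ) = evC P L φ ≫ (iotaL L).inv := by
  unfold evD evC iotaL
  rw [sFCHFI_inv_app, assoc, assoc]
  congr 1
  exact ((homologyFunctorFactors C 0).inv.naturality φ).symm

omit [HasDerivedCategory.{w} C] in
set_option backward.isDefEq.respectTransparency false in
lemma evC_sub (L : CochainComplex C ℤ) (φ φ' : (CochainComplex.singleFunctor C 0).obj P ⟶ L) :
    evC P L (φ - φ') = evC P L φ - evC P L φ' := by
  unfold evC
  rw [homologyMap_sub, Preadditive.comp_sub]

theorem evD_bijective_Q [Projective P] (L : CochainComplex C ℤ) :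
    Function.Bijective (evD P (Q.obj L)) := by
  constructor
  · intro α β hαβ
    obtain ⟨φ, rfl⟩ := exists_Q_map_eq L α
    obtain ⟨φ', rfl⟩ := exists_Q_map_eq L β
    have h1 := evD_Q_map L φ
    have h2 := evD_Q_map L φ'
    have h3 : evC P L φ ≫ (iotaL L).inv = evC P L φ' ≫ (iotaL L).inv :=
      h1.symm.trans (hαβ.trans h2)
    have h4 : evC P L φ = evC P L φ' := (cancel_mono _).mp h3
    have h0 : evC P L (φ - φ') = 0 := by rw [evC_sub, h4, sub_self]
    obtain ⟨g, hg⟩ := exists_comp_d_eq (φ - φ') h0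
    obtain ⟨ho⟩ := nonempty_homotopy_zero (φ - φ') g hg
    have := Q_map_eq_zero_of_homotopy (φ - φ') ho
    rw [Functor.map_sub, sub_eq_zero] at this
    exact this
  · intro ψ
    obtain ⟨φ, hφ⟩ := exists_evC_eq (P := P) (L := L) (ψ ≫ (iotaL L).hom)
    refine ⟨Q.map φ, ?_⟩
    refine (evD_Q_map L φ).trans ?_
    have : evC P L φ = ψ ≫ (iotaL L).hom := hφ
    rw [this, assoc, Iso.hom_inv_id, comp_id]

theorem evD_bijective [Projective P] (X : DerivedCategory C) :
    Function.Bijective (evD P X) := by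
  let e : Q.obj (Q.objPreimage X) ≅ X := Q.objObjPreimageIso X
  have hb := evD_bijective_Q (P := P) (Q.objPreimage X)
  constructor
  · intro α β hαβ
    have : evD P _ (α ≫ e.inv) = evD P _ (β ≫ e.inv) := by
      rw [evD_comp, evD_comp, hαβ]
    have h2 := hb.1 this
    rwa [cancel_mono] at h2
  · intro ψ
    obtain ⟨α, hα⟩ := hb.2 (ψ ≫ (homologyFunctor C 0).map e.inv)
    refine ⟨α ≫ e.hom, ?_⟩
    rw [evD_comp, hα, assoc, ← Functor.map_comp, e.inv_hom_id, CategoryTheory.Functor.map_id,
      comp_id]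

end derived

end Helper5.DMod
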