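import Mathlib

/-!
# Vanishing of Hom from the third vertex of a distinguished triangle
-/

universe v u

open CategoryTheory Category Limits Pretriangulated

namespace Helper5.DMod

variable {D : Type u} [Category.{v} D] [Preadditive D] [HasZeroObject D] [HasShift D ℤ]
  [∀ n : ℤ, (shiftFunctor D n).Additive] [Pretriangulated D]

omit [Preadditive D] [HasZeroObject D] [∀ n : ℤ, (shiftFunctor D n).Additive] [Pretriangulated D] in
lemma subsingleton_hom_shift_shift {Y X : D} (n : ℤ) (m : ℤ) (hm : n + 1 = m)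
    (h : Subsingleton (Y ⟶ X⟦m⟧)) : Subsingleton (Y ⟶ (X⟦n⟧)⟦(1 : ℤ)⟧) := by
  refine ⟨fun a b => ?_⟩
  let e : X⟦m⟧ ≅ (X⟦n⟧)⟦(1 : ℤ)⟧ := (shiftFunctorAdd' D n 1 m hm).app X
  have : a ≫ e.inv = b ≫ e.inv := Subsingleton.elim _ _
  exact (cancel_mono e.inv).mp this

theorem forall_subsingleton_iff_forall_bijective (T : Triangle D) (hT : T ∈ distTriang D) (X : D) :
    (∀ n : ℤ, Subsingleton (T.obj₃ ⟶ X⟦n⟧)) ↔
      ∀ n : ℤ, Function.Bijective (fun α : T.obj₂ ⟶ X⟦n⟧ => T.mor₁ ≫ α) := by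
  constructor
  · intro h n
    constructor
    · intro α β hαβ
      dsimp only at hαβ
      have h0 : T.mor₁ ≫ (α - β) = 0 := by rw [Preadditive.comp_sub, hαβ, sub_self]
      obtain ⟨g, hg⟩ := Triangle.yoneda_exact₂ T hT (α - β) h0
      have : g = 0 := (h n).elim _ _
      rw [this, comp_zero] at hg
      exact sub_eq_zero.mp hg
    · intro γ
      have hsub := subsingleton_hom_shift_shift (Y := T.obj₃) (X := X) n (n + 1) rfl (h (n + 1))
      have h0 : T.mor₃ ≫ γ⟦(1 : ℤ)⟧' = 0 := hsub.elim _ _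
      have hT2 := rot_of_distTriang _ (rot_of_distTriang _ hT)
      obtain ⟨g, hg⟩ := Triangle.yoneda_exact₂ _ hT2 (γ⟦(1 : ℤ)⟧') h0
      have hg2 : γ⟦(1 : ℤ)⟧' =
          (-(T.mor₁⟦(1 : ℤ)⟧')) ≫ (g : (T.obj₂)⟦(1 : ℤ)⟧ ⟶ (X⟦n⟧)⟦(1 : ℤ)⟧) := hg
      obtain ⟨g', hg'⟩ : ∃ g' : T.obj₂ ⟶ X⟦n⟧, g'⟦(1 : ℤ)⟧' = g :=
        (shiftFunctor D (1 : ℤ)).map_surjective g
      refine ⟨-g', ?_⟩
      apply (shiftFunctor D (1 : ℤ)).map_injective
      dsimp only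
      rw [hg2, ← hg', Functor.map_comp, Functor.map_neg, Preadditive.comp_neg,
        Preadditive.neg_comp]
  · intro h n
    refine ⟨fun a b => ?_⟩
    suffices ∀ α : T.obj₃ ⟶ X⟦n⟧, α = 0 by rw [this a, this b]
    intro α
    have h1 : T.mor₂ ≫ α = 0 := by
      apply (h n).1
      dsimp only
      rw [comp_zero, ← assoc, comp_distTriang_mor_zero₁₂ _ hT, zero_comp]
    obtain ⟨g, hg⟩ := Triangle.yoneda_exact₃ T hT α h1
    let e : X⟦n⟧ ≅ (X⟦n - 1⟧)⟦(1 : ℤ)⟧ := (shiftFunctorAdd' D (n - 1) 1 n (by lia)).app X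
    obtain ⟨g', hg'⟩ := (shiftFunctor D (1 : ℤ)).map_surjective (g ≫ e.hom)
    obtain ⟨β, hβ⟩ := (h (n - 1)).2 g'
    dsimp only at hβ
    rw [← cancel_mono e.hom, zero_comp, hg, assoc, ← hg', ← hβ, Functor.map_comp, ← assoc,
      comp_distTriang_mor_zero₃₁ _ hT, zero_comp]

end Helper5.DMod
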