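import Mathlib
import Groth.Prelude.Def_DRing3
import Groth.Agent.Lib.Helper5.DMod.Bridge
import Groth.Agent.Lib.Helper5.DMod.HomProj
import Groth.Agent.Lib.Helper5.DMod.TriHom
import Groth.Agent.Lib.Helper5.DMod.DCMod

universe u

open CategoryTheory Category Abelian DerivedCategory

attribute [local instance] HasDerivedCategory.standard

namespace Helper5.DMod

lemma bijective_conj {α β : Type*} (e : α → β) (he : Function.Bijective e) (f : α → α)
    (g : β → β) (h : ∀ a, e (f a) = g (e a)) : Function.Bijective f ↔ Function.Bijective g := by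
  have hc : g ∘ e = e ∘ f := by funext a; exact (h a).symm
  rw [← Function.Bijective.of_comp_iff' he f, ← hc, Function.Bijective.of_comp_iff g he]

variable {A : Type u} [CommRing A] (f : A)

/-- For `X` in `D(A)`: precomposition with `d : A^(ℕ)[0] → A^(ℕ)[0]` is bijective on
`Hom(A^(ℕ)[0], X)` iff `H⁰(X)` is derived `f`-complete. -/
lemma bijective_comp_iff_DC (X : Dual.D A) :
    Function.Bijective (fun α : (DerivedCategory.singleFunctor (ModuleCat.{u} A) 0).obj
        (ModuleCat.of A (ℕ →₀ A)) ⟶ X =>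
      (DerivedCategory.singleFunctor (ModuleCat.{u} A) 0).map (ModuleCat.ofHom (dF f)) ≫ α) ↔
      DC f ((DerivedCategory.homologyFunctor (ModuleCat.{u} A) 0).obj X) := by
  have : Projective (ModuleCat.of A (ℕ →₀ A)) :=
    ModuleCat.projective_of_free (Finsupp.basisSingleOne (R := A) (ι := ℕ))
  have h1 := bijective_conj (evD (ModuleCat.of A (ℕ →₀ A)) X) (evD_bijective X)
    (fun α => (DerivedCategory.singleFunctor (ModuleCat.{u} A) 0).map (ModuleCat.ofHom (dF f)) ≫ α)
    (fun ψ => ModuleCat.ofHom (dF f) ≫ ψ)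
    (fun α => evD_naturality (ModuleCat.ofHom (dF f)) X α)
  rw [h1]
  set H := (DerivedCategory.homologyFunctor (ModuleCat.{u} A) 0).obj X with hH
  have h2 := bijective_conj (seqEquiv (A := A) H) (seqEquiv (A := A) H).bijective (Phi f H)
    (fun ψ : ModuleCat.of A (ℕ →₀ A) ⟶ ModuleCat.of A H => ModuleCat.ofHom (dF f) ≫ ψ)
    (fun m => (seqEquiv_Phi f H m).symm)
  exact h2.symm

/-- `H⁰(K⟦n⟧) ≃ Hⁿ(K)` as modules. -/
noncomputable def homologyShiftEquiv (K : Dual.D A) (n : ℤ) :
    ((DerivedCategory.homologyFunctor (ModuleCat.{u} A) 0).obj (K⟦n⟧)) ≃ₗ[A] Dual.HD A K n :=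
  (((DerivedCategory.homologyFunctor (ModuleCat.{u} A) 0).shiftIso n 0 n (by simp)).app K).toLinearEquiv

/-- The derived-category form of derived completeness along `f` in terms of cohomology
modules. -/
theorem forall_subsingleton_iff_forall_DC (K : Dual.D A) :
    (∀ n : ℤ, Subsingleton (Dual.inD A (Localization.Away f) ⟶ K⟦n⟧)) ↔
      ∀ n : ℤ, DC f (Dual.HD A K n) := by
  have hT := (locSC_shortExact f).singleTriangle_distinguished
  have h1 := forall_subsingleton_iff_forall_bijective _ hT K
  refine Iff.trans h1 ?_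
  refine forall_congr' (fun n => ?_)
  refine Iff.trans (bijective_comp_iff_DC f (K⟦n⟧)) ?_
  constructor
  · intro h
    exact h.of_equiv (homologyShiftEquiv K n)
  · intro h
    exact h.of_equiv (homologyShiftEquiv K n).symm

theorem isDerivedComplete_iff (I : Ideal A) (K : Dual.D A) :
    DRing.IsDerivedComplete I K ↔ ∀ f ∈ I, ∀ n : ℤ, DC f (Dual.HD A K n) := by
  constructor
  · intro h f hf
    exact (forall_subsingleton_iff_forall_DC f K).mp (h f hf)
  · intro h f hf
    exact (forall_subsingleton_iff_forall_DC f K).mpr (h f hf)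

end Helper5.DMod
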