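import Mathlib
import Groth.Agent.Lib.Helper5.DMod.DCMod

universe u v

namespace Helper5.DMod

variable {A : Type u} [CommRing A]

section

variable {f : A} {M : Type*} [AddCommGroup M] [Module A M]

lemma mem_span_pow_smul_top_iff (n : ℕ) (x : M) :
    x ∈ Ideal.span {f ^ n} • (⊤ : Submodule A M) ↔ ∃ y : M, f ^ n • y = x := by
  rw [Submodule.ideal_span_singleton_smul, Submodule.mem_smul_pointwise_iff_exists]
  simp

/-- `⋂ fⁿ A` kills `⋂ fⁿ M` when `Phi f M` is injective. -/
lemma smul_eq_zero_of_mem_iInf (h : Function.Injective (Phi f M)) {a : A}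
    (ha : ∀ n : ℕ, a ∈ Ideal.span {f ^ n}) {x : M}
    (hx : ∀ n : ℕ, x ∈ Ideal.span {f ^ n} • (⊤ : Submodule A M)) : a • x = 0 := by
  choose y hy using fun n => (mem_span_pow_smul_top_iff n x).mp (hx n)
  choose b hb using fun n => Ideal.mem_span_singleton'.mp (ha n)
  have hz : ∀ i, a • y i = f • (a • y (i + 1)) := by
    intro i
    rw [← sub_eq_zero, smul_comm f a, ← smul_sub]
    conv_lhs => rw [← hb i]
    rw [mul_smul, smul_sub, hy i, smul_smul, ← pow_succ, hy (i + 1), sub_self, smul_zero]
  have h0 := congrFun (Phi_injective_iff.mp h (fun i => a • y i) hz) 0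
  have : y 0 = x := by simpa using hy 0
  simpa [this] using h0

lemma iInf_smul_iInf_eq_bot (h : Function.Injective (Phi f M)) :
    (⨅ n : ℕ, Ideal.span {f ^ n}) • (⨅ n : ℕ, (Ideal.span {f ^ n}) • (⊤ : Submodule A M)) =
      (⊥ : Submodule A M) := by
  rw [eq_bot_iff, Submodule.smul_le]
  intro a ha x hx
  rw [Submodule.mem_bot]
  exact smul_eq_zero_of_mem_iInf h (fun n => (Submodule.mem_iInf _).mp ha n)
    (fun n => (Submodule.mem_iInf _).mp hx n)

end

end Helper5.DMod

namespace Helper5.DMod

variable {A : Type u} [CommRing A]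

/-- Nakayama for derived complete modules. -/
lemma subsingleton_of_span_smul_top_eq_top (s : Finset A) :
    ∀ (M : Type v) [AddCommGroup M] [Module A M], (∀ f ∈ s, DC f M) →
      Ideal.span (s : Set A) • (⊤ : Submodule A M) = ⊤ → Subsingleton M := by
  classical
  induction s using Finset.induction_on with
  | empty =>
    intro M _ _ _ h
    rw [Finset.coe_empty, Ideal.span_empty, Submodule.bot_smul] at h
    exact (Submodule.subsingleton_iff A).mp (subsingleton_iff_bot_eq_top.mp h)
  | insert a s ha ih =>
    intro M _ _ hM h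
    let u : M →ₗ[A] M := LinearMap.lsmul A M a
    have hN : ∀ g ∈ s, DC g (M ⧸ LinearMap.range u) := fun g hg =>
      DC.coker (hM g (Finset.mem_insert_of_mem hg)) (hM g (Finset.mem_insert_of_mem hg)) u
    have htop : Ideal.span (s : Set A) • (⊤ : Submodule A (M ⧸ LinearMap.range u)) = ⊤ := by
      rw [eq_top_iff]
      rintro n -
      obtain ⟨m, rfl⟩ := Submodule.Quotient.mk_surjective _ n
      have hm : m ∈ Ideal.span ((insert a s : Finset A) : Set A) • (⊤ : Submodule A M) := by
        rw [h]; trivial
      rw [Finset.coe_insert, Ideal.span_insert, Submodule.sup_smul, Submodule.mem_sup] at hm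
      obtain ⟨y, hy, z, hz, rfl⟩ := hm
      rw [Submodule.ideal_span_singleton_smul, Submodule.mem_smul_pointwise_iff_exists] at hy
      obtain ⟨y', -, rfl⟩ := hy
      have h1 : (Submodule.Quotient.mk (a • y') : M ⧸ LinearMap.range u) = 0 := by
        rw [Submodule.Quotient.mk_eq_zero]
        exact ⟨y', rfl⟩
      rw [Submodule.Quotient.mk_add, h1, zero_add]
      have h2 : (LinearMap.range u).mkQ z ∈
          (Ideal.span (s : Set A) • (⊤ : Submodule A M)).map (LinearMap.range u).mkQ :=
        Submodule.mem_map_of_mem hz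
      rw [Submodule.map_smul''] at h2
      exact Submodule.smul_mono le_rfl le_top h2
    have hsub := ih (M ⧸ LinearMap.range u) hN htop
    rw [Submodule.Quotient.subsingleton_iff, LinearMap.range_eq_top] at hsub
    exact subsingleton_of_smul_surjective (hM a (Finset.mem_insert_self a s)).1 hsub

end Helper5.DMod
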