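import Mathlib
import Groth.Agent.Lib.Helper5.DMod.DCMod2

universe u v

namespace Helper5.DMod

variable {A : Type u} [CommRing A]

section

variable {I : Ideal A} {f : A} {M : Type*} [AddCommGroup M] [Module A M]

/-- partial sums `∑_{j<n} f^j m_{i+j}` -/
def psum (f : A) (m : ℕ → M) (i n : ℕ) : M := ∑ j ∈ Finset.range n, f ^ j • m (i + j)

lemma psum_succ' (m : ℕ → M) (i n : ℕ) :
    psum f m i (n + 1) = m i + f • psum f m (i + 1) n := by
  unfold psum
  rw [Finset.sum_range_succ', Finset.smul_sum, add_comm]
  congr 1
  · simp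
  · apply Finset.sum_congr rfl
    intro j _
    rw [smul_smul, ← pow_succ', show i + (j + 1) = i + 1 + j by ring]

lemma psum_succ (m : ℕ → M) (i n : ℕ) :
    psum f m i (n + 1) = psum f m i n + f ^ n • m (i + n) := by
  unfold psum
  rw [Finset.sum_range_succ]

lemma psum_sub_mem (hf : f ∈ I) (m : ℕ → M) (i : ℕ) {a b : ℕ} (hab : a ≤ b) :
    psum f m i a - psum f m i b ∈ I ^ a • (⊤ : Submodule A M) := by
  induction b, hab using Nat.le_induction with
  | base => simp
  | succ b hb ih =>
    rw [psum_succ, ← sub_sub]
    refine sub_mem ih ?_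
    exact Submodule.smul_mono_left (Ideal.pow_le_pow_right hb)
      (Submodule.smul_mem_smul (Ideal.pow_mem_pow hf b) trivial)

/-- Adically complete modules are derived complete. -/
theorem DC.of_isAdicComplete [IsAdicComplete I M] (hf : f ∈ I) : DC f M := by
  constructor
  · rw [Phi_injective_iff]
    intro x hx
    have hpow : ∀ n i, x i = f ^ n • x (i + n) := by
      intro n
      induction n with
      | zero => intro i; simp
      | succ n ih =>
        intro i
        rw [ih i, hx (i + n), smul_smul, ← pow_succ, add_assoc]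
    ext i
    apply IsHausdorff.haus (I := I) inferInstance
    intro n
    rw [SModEq.sub_mem, sub_zero]
    rw [hpow n i]
    exact Submodule.smul_mem_smul (Ideal.pow_mem_pow hf n) trivial
  · intro m
    have hc : ∀ i, ∃ L : M, ∀ n, psum f m i n ≡ L [SMOD (I ^ n • ⊤ : Submodule A M)] := by
      intro i
      apply IsPrecomplete.prec (I := I) inferInstance
      intro a b hab
      rw [SModEq.sub_mem]
      exact psum_sub_mem hf m i hab
    choose x hx using hc
    refine ⟨x, ?_⟩
    ext i
    rw [Phi_apply, ← sub_eq_zero]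
    apply IsHausdorff.haus (I := I) inferInstance
    intro n
    rw [SModEq.sub_mem, sub_zero]
    have h1 := (SModEq.sub_mem.mp (hx i (n + 1)))
    have h2 := (SModEq.sub_mem.mp (hx (i + 1) n))
    have h1' : psum f m i (n + 1) - x i ∈ I ^ n • (⊤ : Submodule A M) :=
      Submodule.smul_mono_left (Ideal.pow_le_pow_right (Nat.le_succ n)) h1
    have h2' : f • (psum f m (i + 1) n - x (i + 1)) ∈ I ^ n • (⊤ : Submodule A M) :=
      Submodule.smul_mem _ _ h2
    have e : x i - f • x (i + 1) - m i =
        f • (psum f m (i + 1) n - x (i + 1)) - (psum f m i (n + 1) - x i) := by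
      rw [psum_succ', smul_sub]; abel
    rw [e]
    exact sub_mem h2' h1'

end

end Helper5.DMod
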