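import Mathlib
import Groth.Agent.Lib.Helper5.DMod.DCAdic

universe u v

namespace Helper5.DMod

variable {A : Type u} [CommRing A]

section

variable {M : Type*} [AddCommGroup M] [Module A M]

/-- If `Phi f M x = m` then `x_i = ∑_{j<N} f^j m_{i+j} + f^N x_{i+N}`. -/
lemma eq_psum_add {f : A} {x m : ℕ → M} (h : Phi f M x = m) (N : ℕ) :
    ∀ i, x i = psum f m i N + f ^ N • x (i + N) := by
  induction N with
  | zero => intro i; simp [psum]
  | succ N ih =>
    intro i
    have h0 : x i = m i + f • x (i + 1) := by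
      have := congrFun h i
      rw [Phi_apply] at this
      rw [← this]; abel
    rw [psum_succ', h0, ih (i + 1), smul_add, smul_smul, ← pow_succ', show i + 1 + N = i + (N + 1) by ring, add_assoc]

/-- Elements of `I^(r k + 1) M`, `I` generated by `r` elements `g`, are sums of `g^k`-multiples. -/
lemma exists_sum_pow_smul (s : Finset A) (k : ℕ) :
    ∀ x ∈ (Ideal.span (s : Set A)) ^ (s.card * k + 1) • (⊤ : Submodule A M),
      ∃ c : A → M, x = ∑ g ∈ s, g ^ k • c g := by
  classical
  induction s using Finset.induction_on with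
  | empty =>
    intro x hx
    rw [Finset.coe_empty, Ideal.span_empty, Finset.card_empty, zero_mul, zero_add, pow_one,
      Submodule.bot_smul, Submodule.mem_bot] at hx
    exact ⟨fun _ => 0, by simp [hx]⟩
  | insert a s ha ih =>
    intro x hx
    rw [Finset.coe_insert, Ideal.span_insert, Finset.card_insert_of_notMem ha] at hx
    have hle : (Ideal.span {a} ⊔ Ideal.span (s : Set A)) ^ ((s.card + 1) * k + 1) ≤
        Ideal.span {a ^ k} ⊔ Ideal.span (s : Set A) ^ (s.card * k + 1) := by
      rw [show (s.card + 1) * k + 1 = k + (s.card * k + 1) by ring, ← Ideal.span_singleton_pow]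
      exact Ideal.sup_pow_add_le_pow_sup_pow
    have hx' := Submodule.smul_mono_left (N := (⊤ : Submodule A M)) hle hx
    rw [Submodule.sup_smul, Submodule.mem_sup] at hx'
    obtain ⟨y, hy, z, hz, rfl⟩ := hx'
    rw [Submodule.ideal_span_singleton_smul, Submodule.mem_smul_pointwise_iff_exists] at hy
    obtain ⟨y', -, rfl⟩ := hy
    obtain ⟨c, rfl⟩ := ih z hz
    refine ⟨Function.update c a y', ?_⟩
    rw [Finset.sum_insert ha, Function.update_self]
    congr 1
    apply Finset.sum_congr rfl
    intro g hg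
    rw [Function.update_of_ne]
    rintro rfl
    exact ha hg

/-- A module which is derived complete with respect to each of finitely many generators of `I`
is `I`-adically precomplete. -/
theorem isPrecomplete_of_DC (s : Finset A) (hM : ∀ g ∈ s, DC g M) :
    IsPrecomplete (Ideal.span (s : Set A)) M := by
  classical
  rw [isPrecomplete_iff]
  intro x hx
  let e : ℕ → ℕ := fun k => (s.card + 1) * k + 1
  have he : ∀ k, k ≤ e k := fun k => by dsimp only [e]; nlinarith
  have hemono : ∀ k, e k ≤ e (k + 1) := fun k => by dsimp only [e]; nlinarith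
  have hdiff : ∀ k, ∃ c : A → M, x (e (k + 1)) - x (e k) = ∑ g ∈ s, g ^ k • c g := by
    intro k
    apply exists_sum_pow_smul s k
    have h1 := SModEq.sub_mem.mp (hx (hemono k))
    have h2 : x (e (k + 1)) - x (e k) ∈
        Ideal.span (s : Set A) ^ (e k) • (⊤ : Submodule A M) := by
      rw [← neg_sub]; exact neg_mem h1
    exact Submodule.smul_mono_left
      (Ideal.pow_le_pow_right (by dsimp only [e]; nlinarith)) h2
  choose c hc using hdiff
  have hz : ∀ g : A, ∃ z : ℕ → M, g ∈ s → Phi g M z = fun k => c k g := by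
    intro g
    by_cases hg : g ∈ s
    · obtain ⟨z, hz⟩ := (hM g hg).2 (fun k => c k g)
      exact ⟨z, fun _ => hz⟩
    · exact ⟨0, fun h => absurd h hg⟩
  choose z hz using hz
  refine ⟨x (e 0) + ∑ g ∈ s, z g 0, fun N => ?_⟩
  have h1 : ∀ N, x (e N) - x (e 0) = ∑ g ∈ s, psum g (fun k => c k g) 0 N := by
    intro N
    induction N with
    | zero => simp [psum]
    | succ N ih =>
      have : x (e (N + 1)) - x (e 0) = (x (e (N + 1)) - x (e N)) + (x (e N) - x (e 0)) := by abel
      rw [this, ih, hc N, ← Finset.sum_add_distrib]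
      apply Finset.sum_congr rfl
      intro g _
      rw [psum_succ, zero_add, add_comm]
  have h2 : ∀ g ∈ s, z g 0 = psum g (fun k => c k g) 0 N + g ^ N • z g (0 + N) :=
    fun g hg => eq_psum_add (hz g hg) N 0
  have h3 : (x (e 0) + ∑ g ∈ s, z g 0) - x (e N) = ∑ g ∈ s, g ^ N • z g (0 + N) := by
    have : (x (e 0) + ∑ g ∈ s, z g 0) - x (e N) = (∑ g ∈ s, z g 0) - (x (e N) - x (e 0)) := by
      abel
    rw [this, h1 N, ← Finset.sum_sub_distrib]
    apply Finset.sum_congr rfl
    intro g hg
    rw [h2 g hg]; abel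
  rw [SModEq.sub_mem]
  have h4 : x N - x (e N) ∈ Ideal.span (s : Set A) ^ N • (⊤ : Submodule A M) :=
    SModEq.sub_mem.mp (hx (he N))
  have h5 : ∑ g ∈ s, g ^ N • z g (0 + N) ∈ Ideal.span (s : Set A) ^ N • (⊤ : Submodule A M) :=
    Submodule.sum_mem _ (fun g hg =>
      Submodule.smul_mem_smul (Ideal.pow_mem_pow (Ideal.subset_span hg) N) trivial)
  have h6 : x N - (x (e 0) + ∑ g ∈ s, z g 0) =
      (x N - x (e N)) - ((x (e 0) + ∑ g ∈ s, z g 0) - x (e N)) := by abel
  rw [h6, h3]
  exact sub_mem h4 h5

end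

end Helper5.DMod
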