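import Mathlib
import Groth.Agent.Lib.Helper5.DMod.DCPre

universe u v

namespace Helper5.DMod

variable {A : Type u} [CommRing A] {M : Type*} [AddCommGroup M] [Module A M]

section sol

variable {f : A}

/-- The inverse of `Phi f M` for a derived complete module. -/
noncomputable def DC.sol (h : DC f M) : (ℕ → M) ≃ₗ[A] (ℕ → M) :=
  (LinearEquiv.ofBijective (Phi f M) h).symm

lemma DC.Phi_sol (h : DC f M) (m : ℕ → M) : Phi f M (h.sol m) = m :=
  (LinearEquiv.ofBijective (Phi f M) h).apply_symm_apply m

lemma DC.sol_Phi (h : DC f M) (x : ℕ → M) : h.sol (Phi f M x) = x :=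
  (LinearEquiv.ofBijective (Phi f M) h).symm_apply_apply x

lemma DC.eq_sol (h : DC f M) {x m : ℕ → M} (hx : Phi f M x = m) : x = h.sol m := by
  rw [← hx, h.sol_Phi]

lemma DC.sol_apply (h : DC f M) (m : ℕ → M) (i : ℕ) :
    h.sol m i = m i + f • h.sol m (i + 1) := by
  have := congrFun (h.Phi_sol m) i
  rw [Phi_apply] at this
  rw [← this]; abel

lemma Phi_shift (x : ℕ → M) (k : ℕ) :
    Phi f M (fun i => x (i + k)) = fun i => Phi f M x (i + k) := by
  ext i
  simp only [Phi_apply]
  rw [add_right_comm]

lemma DC.sol_shift (h : DC f M) (m : ℕ → M) (k : ℕ) :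
    h.sol (fun i => m (i + k)) = fun i => h.sol m (i + k) := by
  symm
  apply h.eq_sol
  rw [Phi_shift, h.Phi_sol]

end sol

/-- `Phi 0` is the identity. -/
lemma DC_zero : DC (0 : A) M := by
  have : (Phi (0 : A) M : (ℕ → M) → (ℕ → M)) = id := by
    funext m i
    simp
  unfold DC
  rw [this]
  exact Function.bijective_id

/-- Multiples. -/
lemma DC.mul_left {f : A} (h : DC f M) (a : A) : DC (a * f) M := by
  constructor
  · rw [Phi_injective_iff]
    intro x hx
    ext i
    have : (fun j => a ^ j • x (i + j)) = 0 := by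
      apply Phi_injective_iff.mp h.1
      intro j
      show a ^ j • x (i + j) = f • a ^ (j + 1) • x (i + (j + 1))
      rw [hx (i + j), smul_smul, smul_smul, add_assoc]
      congr 1
      ring
    have h0 := congrFun this 0
    simpa using h0
  · intro m
    let z : ℕ → ℕ → M := fun i => h.sol (fun j => a ^ j • m (i + j))
    have hz : ∀ i, (fun j => z i (j + 1)) = a • z (i + 1) := by
      intro i
      have h1 : (fun j => z i (j + 1)) = h.sol (fun j => a ^ (j + 1) • m (i + (j + 1))) :=
        (h.sol_shift (fun j => a ^ j • m (i + j)) 1).symm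
      rw [h1, ← map_smul]
      congr 1
      ext j
      simp only [Pi.smul_apply, smul_smul]
      rw [pow_succ', add_assoc, add_comm 1 j]
    refine ⟨fun i => z i 0, ?_⟩
    ext i
    rw [Phi_apply]
    have h2 := h.sol_apply (fun j => a ^ j • m (i + j)) 0
    have h3 := congrFun (hz i) 0
    simp only [Pi.smul_apply] at h3
    change z i 0 = _ at h2
    rw [h2]
    simp only [pow_zero, one_smul, add_zero, zero_add]
    change m i + f • z i 1 - (a * f) • z (i + 1) 0 = m i
    have h3' : z i 1 = a • z (i + 1) 0 := h3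
    rw [h3', smul_smul, mul_comm f a]
    abel


/-- If `x_i = f x_{i+1}` for all `i` then `x_i = f^k x_{i+k}`. -/
lemma eq_pow_smul_of_forall {f : A} {x : ℕ → M} (hx : ∀ i, x i = f • x (i + 1)) :
    ∀ k i, x i = f ^ k • x (i + k) := by
  intro k
  induction k with
  | zero => intro i; simp
  | succ k ih =>
    intro i
    rw [ih i, hx (i + k), smul_smul, ← pow_succ, add_assoc]

/-- Radical property. -/
lemma DC.of_pow {f : A} {n : ℕ} (h : DC (f ^ n) M) : DC f M := by
  constructor
  · rw [Phi_injective_iff]
    intro x hx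
    have hpow := eq_pow_smul_of_forall hx
    ext r
    have : (fun q => x (r + n * q)) = 0 := by
      apply Phi_injective_iff.mp h.1
      intro q
      show x (r + n * q) = f ^ n • x (r + n * (q + 1))
      rw [hpow n (r + n * q)]
      congr 2
      ring
    simpa using congrFun this 0
  · intro m
    let c : ℕ → ℕ → M := fun i q => psum f m (i + n * q) n
    refine ⟨fun i => h.sol (c i) 0, ?_⟩
    ext i
    rw [Phi_apply]
    have hc : c i - f • c (i + 1) = Phi (f ^ n) M (fun q => m (i + n * q)) := by
      ext q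
      simp only [Pi.sub_apply, Pi.smul_apply, Phi_apply, c]
      have e1 := psum_succ' (f := f) m (i + n * q) n
      have e2 := psum_succ (f := f) m (i + n * q) n
      rw [show i + 1 + n * q = i + n * q + 1 by ring,
        show i + n * (q + 1) = i + n * q + n by ring]
      have e3 := e1.symm.trans e2
      rw [sub_eq_sub_iff_add_eq_add, add_comm (m (i + n * q)), ← e3, add_comm]
    have e : h.sol (c i) 0 - f • h.sol (c (i + 1)) 0 = (h.sol (c i - f • c (i + 1))) 0 := by
      rw [map_sub, map_smul]; rfl
    rw [e, hc, h.sol_Phi]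
    simp

section add

variable {f g : A}

/-- `T_k(i) = ∑_j C(i+j, i) g^j m_{k+i+j}` -/
noncomputable def Tm (hg : DC g M) (m : ℕ → M) (k i : ℕ) : M :=
  hg.sol (fun j => ((i + j).choose i : A) • m (k + i + j)) 0

lemma Tm_zero (hg : DC g M) (m : ℕ → M) (k : ℕ) :
    Tm hg m k 0 = m k + g • Tm hg m (k + 1) 0 := by
  have e0 : ∀ k, (fun j => ((0 + j).choose 0 : A) • m (k + 0 + j)) = fun j => m (k + j) := by
    intro k; funext j; simp
  unfold Tm
  rw [e0, e0, hg.sol_apply]
  have hshift := congrFun (hg.sol_shift (fun j => m (k + j)) 1) 0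
  have e1 : (fun i => (fun j => m (k + j)) (i + 1)) = fun j => m (k + 1 + j) := by
    funext j
    show m (k + (j + 1)) = m (k + 1 + j)
    rw [show k + (j + 1) = k + 1 + j by ring]
  rw [e1] at hshift
  rw [hshift, add_zero]

lemma Tm_succ (hg : DC g M) (m : ℕ → M) (k i : ℕ) :
    Tm hg m k (i + 1) = Tm hg m (k + 1) i + g • Tm hg m (k + 1) (i + 1) := by
  let a : ℕ → M := fun j => ((i + j).choose i : A) • m (k + 1 + i + j)
  let b : ℕ → M := fun j => ((i + j).choose (i + 1) : A) • m (k + 1 + i + j)
  have hc : (fun j => ((i + 1 + j).choose (i + 1) : A) • m (k + (i + 1) + j)) = a + b := by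
    ext j
    simp only [Pi.add_apply, a, b]
    rw [show i + 1 + j = i + j + 1 by ring, Nat.choose_succ_succ, Nat.cast_add, add_smul,
      show k + (i + 1) + j = k + 1 + i + j by ring]
  have hb0 : b 0 = 0 := by simp [b]
  have hb : hg.sol b 0 = g • Tm hg m (k + 1) (i + 1) := by
    rw [hg.sol_apply, hb0, zero_add]
    have hshift := congrFun (hg.sol_shift b 1) 0
    have e1 : (fun j => b (j + 1)) =
        fun j => ((i + 1 + j).choose (i + 1) : A) • m (k + 1 + (i + 1) + j) := by
      funext j
      show ((i + (j + 1)).choose (i + 1) : A) • m (k + 1 + i + (j + 1)) = _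
      rw [show i + (j + 1) = i + 1 + j by ring,
        show k + 1 + i + (j + 1) = k + 1 + (i + 1) + j by ring]
    rw [e1] at hshift
    unfold Tm
    rw [hshift]
  unfold Tm at *
  rw [hc, map_add, Pi.add_apply, hb]

lemma Tm_smul (hg : DC g M) (c : A) (m : ℕ → M) (k i : ℕ) :
    Tm hg (fun j => c • m j) k i = c • Tm hg m k i := by
  unfold Tm
  have : (fun j => ((i + j).choose i : A) • c • m (k + i + j)) =
      c • fun j => ((i + j).choose i : A) • m (k + i + j) := by
    ext j
    simp only [Pi.smul_apply]
    rw [smul_comm]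
  rw [this, map_smul]
  rfl

/-- Sums. -/
lemma DC.add (hf : DC f M) (hg : DC g M) : DC (f + g) M := by
  constructor
  · rw [Phi_injective_iff]
    intro x hx
    -- T_k(i) = (f+g) T_{k+1}(i)
    have h1 : ∀ k i, Tm hg x k i = (f + g) • Tm hg x (k + 1) i := by
      intro k i
      rw [← Tm_smul]
      unfold Tm
      have : (fun j => ((i + j).choose i : A) • x (k + i + j)) =
          (fun j => ((i + j).choose i : A) • (fun j => (f + g) • x j) (k + 1 + i + j)) := by
        funext j
        show _ = ((i + j).choose i : A) • ((f + g) • x (k + 1 + i + j))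
        rw [show k + 1 + i + j = k + i + j + 1 by ring, ← hx]
      rw [this]
    have h2 : ∀ k i, Tm hg x (k + 1) i = f • Tm hg x (k + 1) (i + 1) := by
      intro k i
      have e1 := Tm_succ hg x k i
      rw [h1 k (i + 1), add_smul] at e1
      have e2 : f • Tm hg x (k + 1) (i + 1) + g • Tm hg x (k + 1) (i + 1) -
          g • Tm hg x (k + 1) (i + 1) =
          Tm hg x (k + 1) i + g • Tm hg x (k + 1) (i + 1) - g • Tm hg x (k + 1) (i + 1) := by
        rw [e1]
      rw [add_sub_cancel_right, add_sub_cancel_right] at e2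
      exact e2.symm
    have h3 : ∀ k i, Tm hg x (k + 1) i = 0 := by
      intro k i
      have := Phi_injective_iff.mp hf.1 (fun i => Tm hg x (k + 1) i) (h2 k)
      exact congrFun this i
    have h4 : ∀ k, x (k + 1) = 0 := by
      intro k
      have := Tm_zero hg x (k + 1)
      rw [h3 k 0, h3 (k + 1) 0, smul_zero, add_zero] at this
      exact this.symm
    ext k
    rcases k with _ | k
    · rw [hx 0, h4 0, smul_zero]; rfl
    · exact h4 k
  · intro m
    let x : ℕ → M := fun k => hf.sol (fun i => Tm hg m k i) 0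
    refine ⟨x, ?_⟩
    ext k
    rw [Phi_apply]
    set W : M := hf.sol (fun i => Tm hg m (k + 1) (i + 1)) 0 with hW
    have hx1 : x (k + 1) = Tm hg m (k + 1) 0 + f • W := by
      have e := hf.sol_apply (fun i => Tm hg m (k + 1) i) 0
      have e' := congrFun (hf.sol_shift (fun i => Tm hg m (k + 1) i) 1) 0
      simp only [zero_add] at e e'
      show hf.sol (fun i => Tm hg m (k + 1) i) 0 = _
      rw [e, ← e']
    have hx0 : x k = Tm hg m k 0 + f • (x (k + 1) + g • W) := by
      have e := hf.sol_apply (fun i => Tm hg m k i) 0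
      have e' := congrFun (hf.sol_shift (fun i => Tm hg m k i) 1) 0
      simp only [zero_add] at e e'
      show hf.sol (fun i => Tm hg m k i) 0 = _
      rw [e, ← e']
      congr 2
      have e3 : (fun i => Tm hg m k (i + 1)) =
          (fun i => Tm hg m (k + 1) i) + g • (fun i => Tm hg m (k + 1) (i + 1)) := by
        ext i
        exact Tm_succ hg m k i
      rw [e3, map_add, map_smul]
      rfl
    rw [hx0, Tm_zero hg m k, hx1]
    module

end add

/-- The radical ideal of elements `f` with `M` derived `f`-complete. -/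
def DCIdeal (M : Type*) [AddCommGroup M] [Module A M] : Ideal A where
  carrier := {f | DC f M}
  zero_mem' := DC_zero
  add_mem' := fun hf hg => DC.add hf hg
  smul_mem' := fun a _ hf => DC.mul_left hf a

lemma mem_DCIdeal {f : A} : f ∈ DCIdeal (A := A) M ↔ DC f M := Iff.rfl

lemma DCIdeal_isRadical : (DCIdeal (A := A) M).IsRadical := by
  rintro f ⟨n, hn⟩
  exact DC.of_pow (n := n) hn

/-- Derived completeness with respect to generators implies it for the ideal. -/
lemma DC_of_mem_span {s : Set A} (h : ∀ g ∈ s, DC g M) {f : A} (hf : f ∈ Ideal.span s) :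
    DC f M := by
  have : Ideal.span s ≤ DCIdeal (A := A) M := Ideal.span_le.mpr h
  exact this hf

end Helper5.DMod
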