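import Mathlib
import Groth.Prelude.Def_DRing3
import Groth.Prelude.Def_DDual2
import Groth.Agent.Lib.Helper5.DMod.BridgeCx
import Groth.Agent.Lib.Helper5.DMod.DCIdeal

/-!
# Derived completeness and restriction of scalars
-/

universe u v₁ v₂ u₁ u₂ w₁ w₂

open CategoryTheory Limits

attribute [local instance] HasDerivedCategory.standard

namespace Helper5.DMod

section general

variable {C₁ : Type u₁} {C₂ : Type u₂} [Category.{v₁} C₁] [Category.{v₂} C₂] [Abelian C₁] [Abelian C₂]
  (F : C₁ ⥤ C₂) [F.Additive] [PreservesFiniteLimits F] [PreservesFiniteColimits F]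

/-- An exact functor commutes with homology of complexes. -/
noncomputable def mapHCHomologyIso (E : CochainComplex C₁ ℤ) (n : ℤ) :
    ((F.mapHomologicalComplex (ComplexShape.up ℤ)).obj E).homology n ≅ F.obj (E.homology n) :=
  (E.sc n).mapHomologyIso F

variable [HasDerivedCategory.{w₁} C₁] [HasDerivedCategory.{w₂} C₂]

/-- An exact functor commutes with the homology functors on derived categories (objectwise). -/
noncomputable def mapDerivedCategoryHomologyIso (L : DerivedCategory C₁) (n : ℤ) :
    (DerivedCategory.homologyFunctor C₂ n).obj (F.mapDerivedCategory.obj L) ≅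
      F.obj ((DerivedCategory.homologyFunctor C₁ n).obj L) :=
  let E := DerivedCategory.Q.objPreimage L
  let e : DerivedCategory.Q.obj E ≅ L := DerivedCategory.Q.objObjPreimageIso L
  (DerivedCategory.homologyFunctor C₂ n).mapIso (F.mapDerivedCategory.mapIso e.symm) ≪≫
    (DerivedCategory.homologyFunctor C₂ n).mapIso (F.mapDerivedCategoryFactors.app E) ≪≫
    (DerivedCategory.homologyFunctorFactors C₂ n).app _ ≪≫
    mapHCHomologyIso F E n ≪≫
    F.mapIso ((DerivedCategory.homologyFunctorFactors C₁ n).app E).symm ≪≫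
    F.mapIso ((DerivedCategory.homologyFunctor C₁ n).mapIso e)

end general

variable {A B : Type u} [CommRing A] [CommRing B] (φ : A →+* B)

lemma DC_restrictScalars_iff (f : A) (N : ModuleCat.{u} B) :
    DC f ((ModuleCat.restrictScalars φ).obj N) ↔ DC (φ f) N := by
  have h : ∀ x : ℕ → ((ModuleCat.restrictScalars φ).obj N),
      Phi f ((ModuleCat.restrictScalars φ).obj N) x = Phi (φ f) N x := by
    intro x
    funext i
    rw [Phi_apply]
    exact (Phi_apply (φ f) N x i).symm
  have h' : (Phi f ((ModuleCat.restrictScalars φ).obj N) :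
      (ℕ → ((ModuleCat.restrictScalars φ).obj N)) → (ℕ → ((ModuleCat.restrictScalars φ).obj N))) =
      (Phi (φ f) N : (ℕ → N) → (ℕ → N)) := funext h
  unfold DC
  exact Iff.of_eq (congrArg Function.Bijective h')

/-- `Hⁿ` commutes with restriction of scalars. -/
noncomputable def HDrestrictEquiv (L : Dual.D B) (n : ℤ) :
    Dual.HD A ((DRing.restrictD φ).obj L) n ≃ₗ[A]
      ((ModuleCat.restrictScalars φ).obj
        ((DerivedCategory.homologyFunctor (ModuleCat.{u} B) n).obj L)) :=
  (mapDerivedCategoryHomologyIso (ModuleCat.restrictScalars φ) L n).toLinearEquiv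

lemma DC_HD_restrictD_iff (f : A) (L : Dual.D B) (n : ℤ) :
    DC f (Dual.HD A ((DRing.restrictD φ).obj L) n) ↔ DC (φ f) (Dual.HD B L n) := by
  rw [← DC_restrictScalars_iff]
  exact ⟨fun h => h.of_equiv (HDrestrictEquiv φ L n),
    fun h => h.of_equiv (HDrestrictEquiv φ L n).symm⟩

theorem isDerivedComplete_map_iff (I : Ideal A) (L : Dual.D B) :
    DRing.IsDerivedComplete (I.map φ) L ↔
      DRing.IsDerivedComplete I ((DRing.restrictD φ).obj L) := by
  rw [isDerivedComplete_iff, isDerivedComplete_iff]
  constructor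
  · intro h f hf n
    rw [DC_HD_restrictD_iff]
    exact h (φ f) (Ideal.mem_map_of_mem φ hf) n
  · intro h g hg n
    refine DC_of_mem_span (s := φ '' (I : Set A)) ?_ hg
    rintro _ ⟨f, hf, rfl⟩
    rw [← DC_HD_restrictD_iff]
    exact h f hf n

end Helper5.DMod
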