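import Mathlib
import Groth.Prelude.Def_DRing3
import Groth.Agent.Lib.Helper5.DMod.BridgeCx
import Groth.Agent.Lib.Helper5.DRing.Dev

universe u

open CategoryTheory Category Limits DerivedCategory Pretriangulated

attribute [local instance] HasDerivedCategory.standard

namespace Helper5.DMod

variable {A : Type u} [CommRing A] (I : Ideal A)

lemma isDerivedComplete_shift {K : Dual.D A} (hK : DRing.IsDerivedComplete I K) (m : ℤ) :
    DRing.IsDerivedComplete I (K⟦m⟧) := by
  intro f hf n
  have := hK f hf (m + n)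
  exact (Iso.homToEquiv ((shiftFunctorAdd' (Dual.D A) m n (m + n) rfl).app K)
    (Z := Dual.inD A (Localization.Away f))).symm.subsingleton

lemma isDerivedComplete_of_iso {K L : Dual.D A} (e : K ≅ L) (hK : DRing.IsDerivedComplete I K) :
    DRing.IsDerivedComplete I L := by
  intro f hf n
  have := hK f hf n
  exact (Iso.homToEquiv ((shiftFunctor (Dual.D A) n).mapIso e)
    (Z := Dual.inD A (Localization.Away f))).symm.subsingleton

/-- 2-out-of-3 for derived completeness (third vertex). -/
lemma isDerivedComplete_obj₃ (T : Triangle (Dual.D A)) (hT : T ∈ distTriang (Dual.D A))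
    (h₁ : DRing.IsDerivedComplete I T.obj₁) (h₂ : DRing.IsDerivedComplete I T.obj₂) :
    DRing.IsDerivedComplete I T.obj₃ := by
  intro f hf n
  refine ⟨fun a b => ?_⟩
  suffices ∀ c : Dual.inD A (Localization.Away f) ⟶ T.obj₃⟦n⟧, c = 0 by rw [this a, this b]
  intro c
  have hT' := Triangle.shift_distinguished T hT n
  have h1 : Subsingleton (Dual.inD A (Localization.Away f) ⟶ (T.obj₁⟦n⟧)⟦(1 : ℤ)⟧) :=
    isDerivedComplete_shift I h₁ n f hf 1
  obtain ⟨g, hg⟩ := Triangle.coyoneda_exact₃ _ hT' c (h1.elim _ _)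
  have h2 : Subsingleton (Dual.inD A (Localization.Away f) ⟶ T.obj₂⟦n⟧) := h₂ f hf n
  rw [hg, h2.elim g 0]
  exact zero_comp

section

variable [DRing.HasDerivedCompletion I]

/-- Universal property of the derived completion, in `D(A)`. -/
lemma unit_comp_bijective (X Y : Dual.D A) (hY : DRing.IsDerivedComplete I Y) :
    Function.Bijective
      (fun g : ((DRing.derivedCompletion I).obj X).obj ⟶ Y => DRing.toDerivedCompletion I X ≫ g) := by
  let Y' : DRing.DComp I := ⟨Y, hY⟩
  have h1 := ((DRing.derivedCompletionAdj I).homEquiv X Y').bijective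
  have h2 := ((ObjectProperty.fullyFaithfulι (DRing.IsDerivedComplete I)).homEquiv
    (X := (DRing.derivedCompletion I).obj X) (Y := Y')).symm.bijective
  convert h1.comp h2 using 1
  funext g
  simp only [Function.comp_apply, Adjunction.homEquiv_unit]
  rfl

lemma unit_shift_comp_bijective (X Y : Dual.D A) (hY : DRing.IsDerivedComplete I Y) (n : ℤ) :
    Function.Bijective
      (fun g : (((DRing.derivedCompletion I).obj X).obj)⟦n⟧ ⟶ Y =>
        (DRing.toDerivedCompletion I X)⟦n⟧' ≫ g) := by
  let e := (shiftEquiv (Dual.D A) n).toAdjunction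
  have h1 := unit_comp_bijective I X (Y⟦-n⟧) (isDerivedComplete_shift I hY (-n))
  have h2 := (e.homEquiv (((DRing.derivedCompletion I).obj X).obj) Y).bijective
  have h3 := (e.homEquiv X Y).symm.bijective
  have key : (fun g : (((DRing.derivedCompletion I).obj X).obj)⟦n⟧ ⟶ Y =>
        (DRing.toDerivedCompletion I X)⟦n⟧' ≫ g) =
      (e.homEquiv X Y).symm ∘ (fun g => DRing.toDerivedCompletion I X ≫ g) ∘
        (e.homEquiv ((DRing.derivedCompletion I).obj X).obj Y) := by
    funext g
    simp only [Function.comp_apply]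
    rw [← Adjunction.homEquiv_naturality_left, Equiv.symm_apply_apply]
    rfl
  rw [key]
  exact h3.comp (h1.comp h2)

/-- Key injectivity: given a morphism of distinguished triangles from `(K, L, Z)` to
`(K^, L^, C)` extending the units, precomposition with the third map is injective on maps to
derived complete objects. -/
lemma third_precomp_injective {K L : Dual.D A} (φ : K ⟶ L)
    {Z C : Dual.D A} (α : L ⟶ Z) (β : Z ⟶ K⟦(1 : ℤ)⟧)
    (hT₁ : Triangle.mk φ α β ∈ distTriang (Dual.D A))
    (α' : ((DRing.derivedCompletion I).obj L).obj ⟶ C)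
    (β' : C ⟶ (((DRing.derivedCompletion I).obj K).obj)⟦(1 : ℤ)⟧)
    (hT₂ : Triangle.mk ((DRing.derivedCompletion I).map φ).hom α' β' ∈ distTriang (Dual.D A))
    (γ : Z ⟶ C) (h₁ : α ≫ γ = DRing.toDerivedCompletion I L ≫ α')
    (h₂ : β ≫ (DRing.toDerivedCompletion I K)⟦(1 : ℤ)⟧' = γ ≫ β')
    (Y : Dual.D A) (hY : DRing.IsDerivedComplete I Y) (g : C ⟶ Y) (hg : γ ≫ g = 0) : g = 0 := by
  have hnat : φ ≫ DRing.toDerivedCompletion I L =
      DRing.toDerivedCompletion I K ≫ ((DRing.derivedCompletion I).map φ).hom :=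
    (DRing.derivedCompletionAdj I).unit.naturality φ
  -- step 1
  have s1 : α' ≫ g = 0 := by
    apply (unit_comp_bijective I L Y hY).1
    simp only
    rw [← reassoc_of% h₁, hg, comp_zero, comp_zero]
  -- step 2
  obtain ⟨h, hh⟩ : ∃ h : (((DRing.derivedCompletion I).obj K).obj)⟦(1 : ℤ)⟧ ⟶ Y, g = β' ≫ h :=
    Triangle.yoneda_exact₃ _ hT₂ g s1
  -- step 3
  have s3 : β ≫ ((DRing.toDerivedCompletion I K)⟦(1 : ℤ)⟧' ≫ h) = 0 := by
    rw [reassoc_of% h₂, ← hh, hg]
  obtain ⟨k, hk⟩ : ∃ k : L⟦(1 : ℤ)⟧ ⟶ Y,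
      (DRing.toDerivedCompletion I K)⟦(1 : ℤ)⟧' ≫ h = (-φ⟦(1 : ℤ)⟧') ≫ k :=
    Triangle.yoneda_exact₃ _ (rot_of_distTriang _ hT₁)
      ((DRing.toDerivedCompletion I K)⟦(1 : ℤ)⟧' ≫ h) s3
  -- step 4
  obtain ⟨k', hk'⟩ := (unit_shift_comp_bijective I L Y hY 1).2 k
  simp only at hk'
  -- step 5
  have s5 : h = -((DRing.derivedCompletion I).map φ).hom⟦(1 : ℤ)⟧' ≫ k' := by
    apply (unit_shift_comp_bijective I K Y hY 1).1
    simp only
    rw [hk, ← hk', Preadditive.neg_comp, Preadditive.comp_neg,
      ← Functor.map_comp_assoc, ← Functor.map_comp_assoc, hnat]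
  -- step 6
  rw [hh, s5]
  have : β' ≫ (-((DRing.derivedCompletion I).map φ).hom⟦(1 : ℤ)⟧') = 0 :=
    comp_distTriang_mor_zero₂₃ _ (rot_of_distTriang _ hT₂)
  rw [← Preadditive.neg_comp, reassoc_of% this, zero_comp]

end

section trunc

lemma DC_of_subsingleton (f : A) (M : Type*) [AddCommGroup M] [Module A M] [Subsingleton M] :
    DC f M :=
  ⟨fun _ _ _ => Subsingleton.elim _ _, fun b => ⟨0, Subsingleton.elim _ _⟩⟩

lemma isDerivedComplete_truncGE {C : Dual.D A} (hC : DRing.IsDerivedComplete I C) (n : ℤ) :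
    DRing.IsDerivedComplete I ((TStructure.t.truncGE n).obj C) := by
  rw [isDerivedComplete_iff] at hC ⊢
  intro f hf i
  by_cases hi : i < n
  · have hz : IsZero ((DerivedCategory.homologyFunctor (ModuleCat.{u} A) i).obj
        ((TStructure.t.truncGE n).obj C)) := by
      have : ((TStructure.t.truncGE n).obj C).IsGE n := by
        change TStructure.t.IsGE ((TStructure.t.truncGE n).obj C) n
        infer_instance
      exact (DerivedCategory.isGE_iff _ n).mp this i hi
    have : Subsingleton (Dual.HD A ((TStructure.t.truncGE n).obj C) i) :=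
      ModuleCat.subsingleton_of_isZero hz
    exact DC_of_subsingleton f _
  · let T := (TStructure.t.triangleLEGE (n - 1) n (by omega)).obj C
    have hT : T ∈ distTriang _ := TStructure.t.triangleLEGE_distinguished (n - 1) n (by omega) C
    have l1 : T.obj₁.IsLE (n - 1) := by
      change TStructure.t.IsLE ((TStructure.t.truncLE (n - 1)).obj C) (n - 1)
      infer_instance
    have hiso : IsIso ((DerivedCategory.homologyFunctor (ModuleCat.{u} A) i).map T.mor₂) :=
      Groth.Agent.Helper5.Devissage.isIso_homologyMap_mor₂ T hT i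
        ((DerivedCategory.isLE_iff _ (n - 1)).mp l1 i (by omega))
        ((DerivedCategory.isLE_iff _ (n - 1)).mp l1 (i + 1) (by omega))
    exact (hC f hf i).of_equiv
      (asIso ((DerivedCategory.homologyFunctor (ModuleCat.{u} A) i).map T.mor₂)).toLinearEquiv

end trunc

section main

open DerivedCategory.HomologySequence

lemma isZero_homology_obj₃ (T : Triangle (Dual.D A)) (hT : T ∈ distTriang (Dual.D A)) (i : ℤ)
    (he : Epi ((DerivedCategory.homologyFunctor (ModuleCat.{u} A) i).map T.mor₁))
    (hm : Mono ((DerivedCategory.homologyFunctor (ModuleCat.{u} A) (i + 1)).map T.mor₁)) :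
    IsZero ((DerivedCategory.homologyFunctor (ModuleCat.{u} A) i).obj T.obj₃) := by
  have h2 := (epi_homologyMap_mor₁_iff T hT i).mp he
  have hδ := (mono_homologyMap_mor₁_iff T hT i (i + 1) rfl).mp hm
  have ex := exact₃ T hT i (i + 1) rfl
  have : Mono (δ T i (i + 1) rfl) := ex.mono_g h2
  exact IsZero.of_mono_eq_zero _ hδ

variable [DRing.HasDerivedCompletion I]

theorem completion_right_t_exact {K L : Dual.D A} (φ : K ⟶ L)
    (hiso : ∀ i : ℤ, 1 ≤ i → IsIso ((DerivedCategory.homologyFunctor (ModuleCat.{u} A) i).map φ))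
    (hepi : Epi ((DerivedCategory.homologyFunctor (ModuleCat.{u} A) 0).map φ)) :
    (∀ i : ℤ, 1 ≤ i → IsIso ((DerivedCategory.homologyFunctor (ModuleCat.{u} A) i).map
        ((DRing.derivedCompletion I).map φ).hom)) ∧
      Epi ((DerivedCategory.homologyFunctor (ModuleCat.{u} A) 0).map
        ((DRing.derivedCompletion I).map φ).hom) := by
  obtain ⟨Z, α, β, hT₁⟩ := distinguished_cocone_triangle φ
  obtain ⟨C, α', β', hT₂⟩ := distinguished_cocone_triangle ((DRing.derivedCompletion I).map φ).hom
  have hnat : φ ≫ DRing.toDerivedCompletion I L =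
      DRing.toDerivedCompletion I K ≫ ((DRing.derivedCompletion I).map φ).hom :=
    (DRing.derivedCompletionAdj I).unit.naturality φ
  obtain ⟨γ, h₁, h₂⟩ := complete_distinguished_triangle_morphism _ _ hT₁ hT₂
    (DRing.toDerivedCompletion I K) (DRing.toDerivedCompletion I L) hnat
  try dsimp at h₁ h₂
  -- Z is in D^{≤ -1}
  have hZ : Z.IsLE (-1) := by
    rw [DerivedCategory.isLE_iff]
    intro i hi
    have he : Epi ((DerivedCategory.homologyFunctor (ModuleCat.{u} A) i).map φ) := by
      by_cases h0 : i = 0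
      · subst h0; exact hepi
      · have := hiso i (by omega); infer_instance
    have hm : Mono ((DerivedCategory.homologyFunctor (ModuleCat.{u} A) (i + 1)).map φ) := by
      have := hiso (i + 1) (by omega); infer_instance
    exact isZero_homology_obj₃ (Triangle.mk φ α β) hT₁ i he hm
  -- C is derived complete
  have hC : DRing.IsDerivedComplete I C :=
    isDerivedComplete_obj₃ I _ hT₂ ((DRing.derivedCompletion I).obj K).property
      ((DRing.derivedCompletion I).obj L).property
  -- the truncation map of C is zero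
  let T := (TStructure.t.triangleLEGE (-1) 0 (by omega)).obj C
  have hT : T ∈ distTriang _ := TStructure.t.triangleLEGE_distinguished (-1) 0 (by omega) C
  have hY : DRing.IsDerivedComplete I T.obj₃ := isDerivedComplete_truncGE I hC 0
  have g3 : T.obj₃.IsGE 0 := by
    change TStructure.t.IsGE ((TStructure.t.truncGE 0).obj C) 0
    infer_instance
  have l1 : T.obj₁.IsLE (-1) := by
    change TStructure.t.IsLE ((TStructure.t.truncLE (-1)).obj C) (-1)
    infer_instance
  have hπ : T.mor₂ = 0 := by
    apply third_precomp_injective I φ α β hT₁ α' β' hT₂ γ h₁ h₂ T.obj₃ hY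
    exact TStructure.t.zero_of_isLE_of_isGE _ (-1) 0 (by omega) hZ g3
  have hCz : ∀ i : ℤ, 0 ≤ i →
      IsZero ((DerivedCategory.homologyFunctor (ModuleCat.{u} A) i).obj C) := by
    intro i hi
    have hiso' : IsIso ((DerivedCategory.homologyFunctor (ModuleCat.{u} A) i).map T.mor₂) :=
      Groth.Agent.Helper5.Devissage.isIso_homologyMap_mor₂ T hT i
        ((DerivedCategory.isLE_iff _ (-1)).mp l1 i (by omega))
        ((DerivedCategory.isLE_iff _ (-1)).mp l1 (i + 1) (by omega))
    rw [hπ, Functor.map_zero] at hiso'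
    rw [IsZero.iff_id_eq_zero]
    have := IsIso.hom_inv_id (0 : (DerivedCategory.homologyFunctor (ModuleCat.{u} A) i).obj T.obj₂ ⟶
      (DerivedCategory.homologyFunctor (ModuleCat.{u} A) i).obj T.obj₃)
    rw [zero_comp] at this
    exact this.symm
  constructor
  · intro i hi
    exact Groth.Agent.Helper5.Devissage.isIso_homologyMap_mor₁ _ hT₂ i (hCz (i - 1) (by omega))
      (hCz i (by omega))
  · exact (epi_homologyMap_mor₁_iff (Triangle.mk _ α' β') hT₂ 0).mpr
      ((hCz 0 le_rfl).eq_of_tgt _ _)

end main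

end Helper5.DMod
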