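import Mathlib
import Groth.Prelude.Def_Wider

open CategoryTheory Category Limits Pretriangulated DerivedCategory

universe u

attribute [local instance] HasDerivedCategory.standard

namespace Helper5.DMod

variable {R : Type u} [CommRing R]

lemma homologyFunctor_map_smul_id (K : Dual.D R) (r : R) (i : ℤ) :
    (DerivedCategory.homologyFunctor (ModuleCat.{u} R) i).map (r • 𝟙 K) = r • 𝟙 _ := by
  have hlin : (HomologicalComplex.homologyFunctor (ModuleCat.{u} R) (ComplexShape.up ℤ) i).Linear R := by
    constructor
    intro X Y f r
    exact (ShortComplex.homologyMap_smul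
      ((HomologicalComplex.shortComplexFunctor (ModuleCat.{u} R) (ComplexShape.up ℤ) i).map f) r)
  have : Localization.Lifting (DerivedCategory.Q (C := ModuleCat.{u} R))
      (HomologicalComplex.quasiIso (ModuleCat.{u} R) (ComplexShape.up ℤ))
      (HomologicalComplex.homologyFunctor (ModuleCat.{u} R) (ComplexShape.up ℤ) i)
      (DerivedCategory.homologyFunctor (ModuleCat.{u} R) i) :=
    ⟨DerivedCategory.homologyFunctorFactors (ModuleCat.{u} R) i⟩
  have : (DerivedCategory.homologyFunctor (ModuleCat.{u} R) i).Linear R :=
    (Localization.functor_linear_iff (DerivedCategory.Q (C := ModuleCat.{u} R))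
      (HomologicalComplex.quasiIso (ModuleCat.{u} R) (ComplexShape.up ℤ)) R
      (HomologicalComplex.homologyFunctor (ModuleCat.{u} R) (ComplexShape.up ℤ) i)
      (DerivedCategory.homologyFunctor (ModuleCat.{u} R) i)).mp hlin
  rw [Functor.map_smul, CategoryTheory.Functor.map_id]


end Helper5.DMod
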