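import Mathlib
import Groth.Prelude.Def_DRing3
import Groth.Agent.Lib.Helper5.DMod.BridgeCx
import Groth.Agent.Lib.Helper5.DMod.HLinear

universe u

open CategoryTheory Category Limits DerivedCategory

attribute [local instance] HasDerivedCategory.standard

namespace Helper5.DMod

variable {A : Type u} [CommRing A]

/-- The derived completion functor commutes with scalar multiplication on identities. -/
lemma ι_map_derivedCompletion_map_smul (I : Ideal A) [DRing.HasDerivedCompletion I]
    (X : Dual.D A) (f : A) :
    (ObjectProperty.ι (DRing.IsDerivedComplete I)).map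
      ((DRing.derivedCompletion I).map (f • 𝟙 X)) = f • 𝟙 ((DRing.derivedCompletion I).obj X).obj := by
  have hfull : ∃ g : (DRing.derivedCompletion I).obj X ⟶ (DRing.derivedCompletion I).obj X,
      (ObjectProperty.ι (DRing.IsDerivedComplete I)).map g =
        f • 𝟙 ((DRing.derivedCompletion I).obj X).obj :=
    ⟨(ObjectProperty.ι (DRing.IsDerivedComplete I)).preimage _, Functor.map_preimage _ _⟩
  obtain ⟨g, hg⟩ := hfull
  rw [← hg]
  congr 1
  apply ((DRing.derivedCompletionAdj I).homEquiv X _).injective
  rw [Adjunction.homEquiv_unit, Adjunction.homEquiv_unit, hg]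
  have := (DRing.derivedCompletionAdj I).unit.naturality (f • 𝟙 X)
  simp only [Functor.id_obj, Functor.id_map, Functor.comp_obj, Functor.comp_map] at this
  rw [← this]
  simp

theorem isZero_derivedCompletion_of_isIso_smul (I : Ideal A) [DRing.HasDerivedCompletion I]
    (X : Dual.D A) (f : A) (hf : f ∈ I) [IsIso (f • 𝟙 X)] :
    IsZero ((DRing.derivedCompletion I).obj X).obj := by
  set C := (DRing.derivedCompletion I).obj X with hC
  have hiso : IsIso (f • 𝟙 C.obj) := by
    rw [← ι_map_derivedCompletion_map_smul]
    infer_instance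
  have hDC := (isDerivedComplete_iff I C.obj).mp C.property f hf
  suffices hall : ∀ n : ℤ, IsZero ((DerivedCategory.homologyFunctor (ModuleCat.{u} A) n).obj C.obj) by
    have h1 : C.obj.IsLE 0 := (DerivedCategory.isLE_iff _ _).mpr (fun i _ => hall i)
    have h2 : C.obj.IsGE 1 := (DerivedCategory.isGE_iff _ _).mpr (fun i _ => hall i)
    exact DerivedCategory.TStructure.t.isZero C.obj 0 1
  intro n
  have hbij : IsIso ((DerivedCategory.homologyFunctor (ModuleCat.{u} A) n).map (f • 𝟙 C.obj)) :=
    inferInstance
  rw [homologyFunctor_map_smul_id] at hbij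
  have hsurj : Function.Surjective
      (fun m : ((DerivedCategory.homologyFunctor (ModuleCat.{u} A) n).obj C.obj) => f • m) := by
    have := ((ConcreteCategory.isIso_iff_bijective _).mp hbij).2
    intro m
    obtain ⟨x, hx⟩ := this m
    exact ⟨x, by simpa using hx⟩
  have hsub : Subsingleton ((DerivedCategory.homologyFunctor (ModuleCat.{u} A) n).obj C.obj) :=
    subsingleton_of_smul_surjective (hDC n).1 hsurj
  exact ModuleCat.isZero_of_subsingleton _

end Helper5.DMod
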