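import Mathlib
import Groth.Prelude.Def_DRing3
import Groth.Agent.Lib.Helper5.DMod.BridgeCx

/-!
# Derived completeness of complexes with derived complete terms
-/

universe u

open CategoryTheory

attribute [local instance] HasDerivedCategory.standard

namespace Helper5.DMod

variable {A : Type u} [CommRing A] (f : A)

/-- `Hⁿ` of the image of a complex in `D(A)` is the concrete homology module. -/
noncomputable def HDtoDEquiv (E : DRing.Cx A) (n : ℤ) :
    Dual.HD A (DRing.toD E) n ≃ₗ[A] (E.sc n).moduleCatLeftHomologyData.H :=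
  (((DerivedCategory.homologyFunctorFactors (ModuleCat.{u} A) n).app E) ≪≫
    (E.sc n).moduleCatHomologyIso).toLinearEquiv

/-- `Hⁿ` of isomorphic objects. -/
noncomputable def HDEquivOfIso {K L : Dual.D A} (e : K ≅ L) (n : ℤ) :
    Dual.HD A K n ≃ₗ[A] Dual.HD A L n :=
  ((DerivedCategory.homologyFunctor (ModuleCat.{u} A) n).mapIso e).toLinearEquiv

lemma DC.shortComplex_homology (S : ShortComplex (ModuleCat.{u} A)) (h₁ : DC f S.X₁)
    (h₂ : DC f S.X₂) (h₃ : Function.Injective (Phi f S.X₃)) :
    DC f S.moduleCatLeftHomologyData.H :=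
  DC.coker h₁ (h₂.ker h₃ S.g.hom) S.moduleCatToCycles

lemma DC.HD_toD (E : DRing.Cx A) (h : ∀ i, DC f (E.X i)) (n : ℤ) :
    DC f (Dual.HD A (DRing.toD E) n) :=
  (DC.shortComplex_homology f (E.sc n) (h _) (h _) (h _).1).of_equiv (HDtoDEquiv E n).symm

lemma DC.of_finite_free (hA : DC f A) (M : Type u) [AddCommGroup M] [Module A M]
    [Module.Finite A M] [Module.Free A M] : DC f M :=
  (hA.pi (ι := Module.Free.ChooseBasisIndex A M)).of_equiv
    (Module.Free.chooseBasis A M).equivFun.symm

theorem isDerivedComplete_of_terms (I : Ideal A) (E : DRing.Cx A)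
    (h : ∀ f ∈ I, ∀ i, DC f (E.X i)) (K : Dual.D A) (e : DRing.toD E ≅ K) :
    DRing.IsDerivedComplete I K := by
  rw [isDerivedComplete_iff]
  intro f hf n
  exact (DC.HD_toD f E (h f hf) n).of_equiv (HDEquivOfIso e n)

end Helper5.DMod
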