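import Mathlib
import Groth.Agent.Lib.Helper5.DMod.DCPre

universe u v

namespace Helper5.DMod

section

variable {A : Type u} [CommRing A]

/-- `DC` for the quotient ring as an `A`-module or as a module over itself. -/
lemma DC_quotient_iff (I : Ideal A) (g : A) :
    DC g (A ⧸ I) ↔ DC (Ideal.Quotient.mk I g) (A ⧸ I) := by
  have : (Phi g (A ⧸ I) : (ℕ → A ⧸ I) → (ℕ → A ⧸ I)) = Phi (Ideal.Quotient.mk I g) (A ⧸ I) := by
    funext m i
    simp only [Phi_apply, smul_eq_mul]
    rw [Algebra.smul_def]
    rfl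
  unfold DC
  rw [this]

lemma DC.ideal_span_singleton {g : A} (h : DC g A) (a : A) :
    DC g (Ideal.span {a} : Ideal A) := by
  have h1 := h.range h.1 (LinearMap.lsmul A A a)
  have h2 : LinearMap.range (LinearMap.lsmul A A a) = (Ideal.span {a} : Submodule A A) := by
    ext x
    rw [LinearMap.mem_range, Ideal.mem_span_singleton']
    constructor
    · rintro ⟨y, rfl⟩; exact ⟨y, by simp [mul_comm]⟩
    · rintro ⟨y, rfl⟩; exact ⟨y, by simp [mul_comm]⟩
  exact h1.of_equiv (LinearEquiv.ofEq _ _ h2)

lemma DC.quotient_span_singleton {g : A} (h : DC g A) (a : A) :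
    DC (Ideal.Quotient.mk (Ideal.span {a}) g) (A ⧸ Ideal.span {a}) :=
  (DC_quotient_iff _ g).mp (h.quotient _ (h.ideal_span_singleton a))

end

/-- If `A` is derived complete w.r.t. `r` generators of `I`, then `(⋂ Iⁿ)^(2^r) = 0`. -/
theorem iInf_pow_pow_eq_bot (r : ℕ) : ∀ (A : Type u) [CommRing A] (s : Finset A),
    s.card ≤ r → (∀ g ∈ s, DC g A) →
      (⨅ n : ℕ, Ideal.span (s : Set A) ^ n) ^ (2 ^ r) = ⊥ := by
  classical
  induction r with
  | zero =>
    intro A _ s hs _
    have : s = ∅ := Finset.card_eq_zero.mp (Nat.le_zero.mp hs)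
    subst this
    rw [pow_zero, pow_one, eq_bot_iff]
    refine (iInf_le _ 1).trans ?_
    simp
  | succ r ih =>
    intro A _ s hs hA
    rcases Finset.eq_empty_or_nonempty s with rfl | ⟨f, hf⟩
    · rw [eq_bot_iff]
      refine (Ideal.pow_le_self (by positivity)).trans ((iInf_le _ 1).trans ?_)
      simp
    set s' := s.erase f with hs'
    have hins : s = insert f s' := (Finset.insert_erase hf).symm
    have hcard : s'.card ≤ r := by
      rw [hs', Finset.card_erase_of_mem hf]; omega
    set I := Ideal.span (s : Set A) with hI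
    set I' := Ideal.span (s' : Set A) with hI'
    have hII' : I = Ideal.span {f} ⊔ I' := by
      rw [hI, hins, Finset.coe_insert, Ideal.span_insert]
    set J := ⨅ n : ℕ, I ^ n with hJ
    -- key: J^(2^r) ≤ (f^n) for all n
    have key : ∀ n : ℕ, J ^ (2 ^ r) ≤ Ideal.span {f ^ n} := by
      intro n
      let B := A ⧸ Ideal.span {f ^ n}
      let q : A →+* B := Ideal.Quotient.mk (Ideal.span {f ^ n})
      let t : Finset B := s'.image q
      have ht : t.card ≤ r := Finset.card_image_le.trans hcard
      have hB : ∀ b ∈ t, DC b B := by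
        intro b hb
        obtain ⟨g, hg, rfl⟩ := Finset.mem_image.mp hb
        exact (hA g (Finset.mem_of_mem_erase hg)).quotient_span_singleton (f ^ n)
      have hspan : Ideal.span (t : Set B) = I'.map q := by
        rw [Finset.coe_image, hI', Ideal.map_span]
      have h1 := ih B t ht hB
      have h2 : J.map q ≤ ⨅ m : ℕ, Ideal.span (t : Set B) ^ m := by
        refine le_iInf (fun m => ?_)
        have hJle : J ≤ I ^ (m + n) := iInf_le _ _
        refine (Ideal.map_mono hJle).trans ?_
        rw [Ideal.map_pow, hII', Ideal.map_sup, hspan, sup_comm]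
        refine Ideal.sup_pow_add_le_pow_sup_pow.trans ?_
        have hq0 : q (f ^ n) = 0 := Ideal.Quotient.eq_zero_iff_mem.mpr (Ideal.subset_span rfl)
        have hf0 : Ideal.map q (Ideal.span {f}) ^ n = ⊥ := by
          rw [Ideal.map_span, Set.image_singleton, Ideal.span_singleton_pow, ← map_pow, hq0,
            Ideal.span_singleton_eq_bot.mpr rfl]
        rw [hf0, sup_bot_eq]
      have h3 : (J ^ (2 ^ r)).map q = ⊥ := by
        rw [Ideal.map_pow, eq_bot_iff, ← h1]
        exact Ideal.pow_right_mono h2 _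
      rw [Ideal.map_eq_bot_iff_le_ker, Ideal.mk_ker] at h3
      exact h3
    have key' : J ^ (2 ^ r) ≤ ⨅ n : ℕ, Ideal.span {f ^ n} := le_iInf key
    have hsq := iInf_smul_iInf_eq_bot (f := f) (M := A) (hA f hf).1
    have hsq' : (⨅ n : ℕ, Ideal.span {f ^ n}) * (⨅ n : ℕ, Ideal.span {f ^ n}) = (⊥ : Ideal A) := by
      simpa only [smul_eq_mul, Ideal.mul_top] using hsq
    rw [pow_succ, pow_mul, pow_two, eq_bot_iff, ← hsq']
    exact Ideal.mul_mono key' key'

end Helper5.DMod
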