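import Mathlib
import Groth.Agent.Lib.Helper5.DMod.DCNil

universe u v

open Polynomial

namespace Helper5.DMod

section hens

variable {A : Type u} [CommRing A]

/-- A unit modulo an ideal contained in the Jacobson radical is a unit. -/
theorem isUnit_of_isUnit_mk {I : Ideal A} (hI : I ≤ Ideal.jacobson ⊥) {x : A}
    (h : IsUnit (Ideal.Quotient.mk I x)) : IsUnit x := by
  have := isLocalHom_of_le_jacobson_bot I hI
  exact IsUnit.of_map (Ideal.Quotient.mk I) x h

theorem isUnit_add_of_mem_jacobson {u x : A} (hu : IsUnit u)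
    (hx : x ∈ Ideal.jacobson (⊥ : Ideal A)) : IsUnit (u + x) := by
  apply isUnit_of_isUnit_mk (I := Ideal.jacobson (⊥ : Ideal A)) le_rfl
  have : Ideal.Quotient.mk (Ideal.jacobson (⊥ : Ideal A)) (u + x)
      = Ideal.Quotient.mk (Ideal.jacobson (⊥ : Ideal A)) u := by
    rw [map_add, Ideal.Quotient.eq_zero_iff_mem.2 hx, add_zero]
  rw [this]
  exact hu.map _

theorem isUnit_eval_of_sub_mem (g : A[X]) {a b : A} (hab : a - b ∈ Ideal.jacobson (⊥ : Ideal A))
    (hu : IsUnit (g.eval b)) : IsUnit (g.eval a) := by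
  obtain ⟨z, hz⟩ := g.evalSubFactor a b
  have : g.eval a = g.eval b + z * (a - b) := by rw [← hz]; ring
  rw [this]
  exact isUnit_add_of_mem_jacobson hu (Ideal.mul_mem_left _ _ hab)

theorem mem_of_mk_mem_map (I J : Ideal A) (hIJ : I ≤ J) {x : A}
    (hx : Ideal.Quotient.mk I x ∈ Ideal.map (Ideal.Quotient.mk I) J) : x ∈ J := by
  obtain ⟨x', hx', he⟩ := (Ideal.mem_map_iff_of_surjective _ Ideal.Quotient.mk_surjective).1 hx
  have : x' - x ∈ I := Ideal.Quotient.eq.1 he
  have h2 : x = x' - (x' - x) := by ring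
  rw [h2]
  exact Ideal.sub_mem _ hx' (hIJ this)

/-- (After helper2's S0528.) Henselian at `I ≤ J` and `A/I` henselian at `J/I` gives henselian at
`J`. -/
theorem henselian_of_quotient (I J : Ideal A) (hIJ : I ≤ J) (hI : HenselianRing A I)
    (hQ : HenselianRing (A ⧸ I) (Ideal.map (Ideal.Quotient.mk I) J)) : HenselianRing A J := by
  have hjac : J ≤ Ideal.jacobson ⊥ := by
    intro x hx
    rw [Ideal.mem_jacobson_bot]
    intro y
    apply isUnit_of_isUnit_mk hI.jac
    have h1 : Ideal.Quotient.mk I x ∈ Ideal.jacobson (⊥ : Ideal (A ⧸ I)) :=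
      hQ.jac (Ideal.mem_map_of_mem _ hx)
    have := (Ideal.mem_jacobson_bot.1 h1) (Ideal.Quotient.mk I y)
    simpa using this
  refine ⟨hjac, ?_⟩
  intro f hf a₀ h₁ h₂
  have hu : IsUnit (f.derivative.eval a₀) := isUnit_of_isUnit_mk hjac h₂
  obtain ⟨bb, hbroot, hbJ⟩ := hQ.is_henselian (f.map (Ideal.Quotient.mk I))
    (hf.map _) (Ideal.Quotient.mk I a₀)
    (by rw [Polynomial.eval_map_apply]; exact Ideal.mem_map_of_mem _ h₁)
    (by rw [Polynomial.derivative_map, Polynomial.eval_map_apply]; exact (hu.map _).map _)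
  obtain ⟨b, rfl⟩ := Ideal.Quotient.mk_surjective bb
  rw [Polynomial.IsRoot, Polynomial.eval_map_apply, Ideal.Quotient.eq_zero_iff_mem] at hbroot
  rw [← map_sub] at hbJ
  have hbJ' : b - a₀ ∈ J := mem_of_mk_mem_map I J hIJ hbJ
  have hub : IsUnit (f.derivative.eval b) := isUnit_eval_of_sub_mem _ (hjac hbJ') hu
  obtain ⟨a, hroot, haI⟩ := hI.is_henselian f hf b hbroot (hub.map _)
  refine ⟨a, hroot, ?_⟩
  have : a - a₀ = (a - b) + (b - a₀) := by ring
  rw [this]
  exact Ideal.add_mem _ (hIJ haI) hbJ'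

/-- A ring is adically complete for an ideal of square zero. -/
theorem isAdicComplete_of_sq_eq_bot (J : Ideal A) (hJ : J * J = ⊥) : IsAdicComplete J A := by
  have hJ2 : J ^ 2 = ⊥ := by rw [pow_two, hJ]
  have hhaus : IsHausdorff J A := by
    rw [isHausdorff_iff]
    intro x hx
    have := hx 2
    rw [SModEq.sub_mem, sub_zero, smul_eq_mul, Ideal.mul_top, hJ2, Ideal.mem_bot] at this
    exact this
  have hpre : IsPrecomplete J A := by
    rw [isPrecomplete_iff]
    intro x hx
    refine ⟨x 2, fun n => ?_⟩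
    rcases Nat.lt_or_ge n 2 with hn | hn
    · exact hx hn.le
    · have h2 := hx hn
      rw [SModEq.sub_mem, smul_eq_mul, Ideal.mul_top, hJ2, Ideal.mem_bot, sub_eq_zero] at h2
      rw [h2]
  exact { toIsHausdorff := hhaus, toIsPrecomplete := hpre }

/-- If `Phi f A` is bijective then `1 - f` is a unit. -/
theorem DC.isUnit_one_sub {f : A} (h : DC f A) : IsUnit (1 - f) := by
  obtain ⟨x, hx⟩ := h.2 (fun _ => 1)
  have hshift : (fun i => x (i + 1)) = x := by
    apply h.1
    rw [hx]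
    ext i
    have := congrFun hx (i + 1)
    simpa using this
  have h0 := congrFun hx 0
  have h1 : x (0 + 1) = x 0 := congrFun hshift 0
  rw [Phi_apply, h1, smul_eq_mul] at h0
  refine IsUnit.of_mul_eq_one (x 0) ?_
  rw [sub_mul, one_mul]
  exact h0

end hens

end Helper5.DMod

namespace Helper5.DMod

section hens2

variable {A : Type u} [CommRing A]

/-- `Phi f` is injective on `M / ⋂ fⁿ M`. -/
lemma Phi_injective_quotient {f : A} {M : Type*} [AddCommGroup M] [Module A M]
    (P : Submodule A M) (hP1 : ∀ (n : ℕ) (x : M), x ∈ P → ∃ y, f ^ n • y = x)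
    (hP2 : ∀ x : M, (∀ n : ℕ, ∃ y, f ^ n • y = x) → x ∈ P) :
    Function.Injective (Phi f (M ⧸ P)) := by
  rw [Phi_injective_iff]
  intro xb hxb
  choose x hx using fun i => Submodule.Quotient.mk_surjective P (xb i)
  have hj : ∀ i, Phi f M x i ∈ P := by
    intro i
    rw [← Submodule.Quotient.mk_eq_zero P, Phi_apply, Submodule.Quotient.mk_sub,
      Submodule.Quotient.mk_smul, hx, hx, ← hxb i, sub_self]
  ext i
  rw [← hx i]
  show Submodule.Quotient.mk (x i) = 0
  rw [Submodule.Quotient.mk_eq_zero]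
  apply hP2
  intro N
  have h1 := eq_psum_add (f := f) (x := x) (m := Phi f M x) rfl N i
  have h2 : psum f (Phi f M x) i N ∈ P := by
    unfold psum
    exact Submodule.sum_mem _ (fun j _ => Submodule.smul_mem _ _ (hj _))
  obtain ⟨y, hy⟩ := hP1 N _ h2
  refine ⟨y + x (i + N), ?_⟩
  rw [smul_add, hy, ← h1]

theorem henselianRing_of_DC (I : Ideal A) (h : ∀ g ∈ I, DC g A) : HenselianRing A I := by
  have hjac : I ≤ Ideal.jacobson ⊥ := by
    intro x hx
    rw [Ideal.mem_jacobson_bot]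
    intro y
    have hxy : -(x * y) ∈ I := I.neg_mem (I.mul_mem_right y hx)
    have := (h _ hxy).isUnit_one_sub
    convert this using 1
    ring
  refine ⟨hjac, ?_⟩
  intro f hf a₀ h₁ h₂
  have hu : IsUnit (f.derivative.eval a₀) := isUnit_of_isUnit_mk hjac h₂
  set ε := f.eval a₀ with hε
  set Jε : Ideal A := ⨅ n : ℕ, Ideal.span {ε ^ n} with hJε
  have hDCε : DC ε A := h ε h₁
  have hsq : Jε * Jε = ⊥ := by
    have := iInf_smul_iInf_eq_bot (f := ε) (M := A) hDCε.1
    simpa only [smul_eq_mul, Ideal.mul_top] using this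
  have hH1 : HenselianRing A Jε := by
    have := isAdicComplete_of_sq_eq_bot Jε hsq
    infer_instance
  have hle : Jε ≤ Ideal.span {ε} := by
    refine (iInf_le _ 1).trans ?_
    rw [pow_one]
  -- the quotient
  have hmemJ : ∀ x : A, x ∈ Jε ↔ ∀ n : ℕ, ∃ y, ε ^ n • y = x := by
    intro x
    rw [hJε, Ideal.mem_iInf]
    refine forall_congr' (fun n => ?_)
    rw [Ideal.mem_span_singleton']
    simp only [smul_eq_mul, mul_comm]
  have hinj : Function.Injective (Phi ε (A ⧸ Jε)) :=
    Phi_injective_quotient (f := ε) (M := A) Jε (fun n x hx => (hmemJ x).mp hx n)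
      (fun x hx => (hmemJ x).mpr hx)
  have hDCB : DC ε (A ⧸ Jε) := by
    refine ⟨hinj, ?_⟩
    intro n
    choose m hm using fun i => Submodule.Quotient.mk_surjective Jε (n i)
    obtain ⟨x, hx⟩ := hDCε.2 m
    refine ⟨fun i => Submodule.Quotient.mk (x i), ?_⟩
    refine (Phi_comp (f := ε) (Submodule.mkQ Jε) x).trans ?_
    rw [hx]
    ext i
    exact hm i
  have hDCB' : DC (Ideal.Quotient.mk Jε ε) (A ⧸ Jε) := (DC_quotient_iff Jε ε).mp hDCB
  have hpre : IsPrecomplete (Ideal.span {Ideal.Quotient.mk Jε ε}) (A ⧸ Jε) := by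
    have := isPrecomplete_of_DC (M := A ⧸ Jε) ({Ideal.Quotient.mk Jε ε} : Finset (A ⧸ Jε))
      (by intro g hg; rw [Finset.mem_singleton] at hg; rw [hg]; exact hDCB')
    rwa [Finset.coe_singleton] at this
  have hhaus : IsHausdorff (Ideal.span {Ideal.Quotient.mk Jε ε}) (A ⧸ Jε) := by
    rw [isHausdorff_iff]
    intro xb hxb
    obtain ⟨x, rfl⟩ := Ideal.Quotient.mk_surjective xb
    rw [Ideal.Quotient.eq_zero_iff_mem, hJε, Ideal.mem_iInf]
    intro n
    have := hxb n
    rw [SModEq.sub_mem, sub_zero, smul_eq_mul, Ideal.mul_top, Ideal.span_singleton_pow,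
      ← map_pow, ← Set.image_singleton, ← Ideal.map_span] at this
    exact mem_of_mk_mem_map Jε _ (iInf_le _ n) this
  have hH2 : HenselianRing (A ⧸ Jε) (Ideal.map (Ideal.Quotient.mk Jε) (Ideal.span {ε})) := by
    rw [Ideal.map_span, Set.image_singleton]
    have : IsAdicComplete (Ideal.span {Ideal.Quotient.mk Jε ε}) (A ⧸ Jε) :=
      { toIsHausdorff := hhaus, toIsPrecomplete := hpre }
    infer_instance
  have hH := henselian_of_quotient Jε (Ideal.span {ε}) hle hH1 hH2
  obtain ⟨a, hroot, ha⟩ := hH.is_henselian f hf a₀ (Ideal.subset_span rfl) (hu.map _)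
  refine ⟨a, hroot, ?_⟩
  have : Ideal.span {ε} ≤ I := by
    rw [Ideal.span_le, Set.singleton_subset_iff]; exact h₁
  exact this ha

end hens2

end Helper5.DMod
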