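import Mathlib
import Groth.Agent.Lib.Helper5.DMod.DCPre

universe u v

namespace Helper5.DMod

section

variable {A : Type u} [CommRing A] {f : A} {M : Type*} [AddCommGroup M] [Module A M]

lemma Phi_injective_submodule (h : Function.Injective (Phi f M)) (P : Submodule A M) :
    Function.Injective (Phi f P) := by
  rw [Phi_injective_iff]
  intro x hx
  have : (fun i => (x i : M)) = 0 := by
    apply (Phi_injective_iff.mp h)
    intro i
    rw [hx i]; rfl
  ext i
  exact congrFun this i

/-- If `f^n M ⊆ f^(n+1) M` and `Phi f M` is injective then `f^n M = 0`. -/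
lemma pow_smul_eq_zero_of_le (h : Function.Injective (Phi f M)) (n : ℕ)
    (hn : ∀ y : M, ∃ y' : M, f ^ (n + 1) • y' = f ^ n • y) : ∀ y : M, f ^ n • y = 0 := by
  let P : Submodule A M := LinearMap.range (LinearMap.lsmul A M (f ^ n))
  have hsurj : Function.Surjective (fun m : P => f • m) := by
    rintro ⟨z, y, rfl⟩
    obtain ⟨y', hy'⟩ := hn y
    refine ⟨⟨f ^ n • y', ⟨y', rfl⟩⟩, ?_⟩
    ext
    simp only [LinearMap.lsmul_apply, Submodule.coe_smul]
    rw [smul_smul, ← pow_succ', hy']
  have := subsingleton_of_smul_surjective (Phi_injective_submodule h P) hsurj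
  intro y
  have h0 : (⟨f ^ n • y, ⟨y, rfl⟩⟩ : P) = 0 := Subsingleton.elim _ _
  exact congrArg Subtype.val h0

/-- A derived `f`-complete module in which every element is `f`-power torsion is killed by a
power of `f`. -/
theorem exists_pow_smul_eq_zero (h : DC f M) (ht : ∀ y : M, ∃ n : ℕ, f ^ n • y = 0) :
    ∃ n : ℕ, ∀ y : M, f ^ n • y = 0 := by
  classical
  by_cases hcase : ∃ n : ℕ, ∀ y : M, ∃ y' : M, f ^ (n + 1) • y' = f ^ n • y
  · obtain ⟨n, hn⟩ := hcase
    exact ⟨n, pow_smul_eq_zero_of_le h.1 n hn⟩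
  · exfalso
    push Not at hcase
    choose y hy using hcase
    -- the choice function
    let g : ℕ → M → M := fun N p =>
      if ∃ y' : M, f ^ (2 * N + 1) • y' = f ^ N • p then y (2 * N) else 0
    let P : ℕ → M := fun N => Nat.rec 0 (fun N p => p + f ^ N • g N p) N
    let m : ℕ → M := fun N => g N (P N)
    have hP0 : P 0 = 0 := rfl
    have hPs : ∀ N, P (N + 1) = P N + f ^ N • m N := fun N => rfl
    have hPsum : ∀ N, P N = psum f m 0 N := by
      intro N
      induction N with
      | zero => simp [psum, hP0]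
      | succ N ih => rw [hPs, psum_succ, ih, zero_add]
    have hkey : ∀ N, ¬ ∃ y' : M, f ^ (2 * N + 1) • y' = f ^ N • P (N + 1) := by
      intro N
      rw [hPs, smul_add, smul_smul, ← pow_add, ← two_mul]
      by_cases hc : ∃ y' : M, f ^ (2 * N + 1) • y' = f ^ N • P N
      · have hm : m N = y (2 * N) := if_pos hc
        rw [hm]
        rintro ⟨y', hy'⟩
        obtain ⟨y'', hy''⟩ := hc
        apply hy (2 * N) (y' - y'')
        rw [smul_sub, hy', hy'']
        abel
      · have hm : m N = 0 := if_neg hc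
        rw [hm, smul_zero, add_zero]
        exact hc
    obtain ⟨x, hx⟩ := h.2 m
    obtain ⟨N, hN⟩ := ht (x 0)
    apply hkey N
    have h1 := eq_psum_add hx (N + 1) 0
    rw [← hPsum] at h1
    refine ⟨-(x (0 + (N + 1))), ?_⟩
    have h2 : f ^ N • x 0 = f ^ N • P (N + 1) + f ^ N • f ^ (N + 1) • x (0 + (N + 1)) := by
      rw [← smul_add, ← h1]
    rw [hN, smul_smul, ← pow_add] at h2
    rw [smul_neg, show 2 * N + 1 = N + (N + 1) by ring]
    rw [eq_comm, ← add_eq_zero_iff_eq_neg]
    exact h2.symm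

end

end Helper5.DMod

namespace Helper5.DMod

variable {A : Type u} [CommRing A] {M : Type*} [AddCommGroup M] [Module A M]

theorem exists_pow_smul_top_eq_bot (s : Finset A) (hM : ∀ g ∈ s, DC g M)
    (ht : ∀ m : M, ∃ n : ℕ, ∀ a ∈ Ideal.span (s : Set A) ^ n, a • m = 0) :
    ∃ n : ℕ, Ideal.span (s : Set A) ^ n • (⊤ : Submodule A M) = ⊥ := by
  classical
  have h1 : ∀ g ∈ s, ∃ n : ℕ, ∀ y : M, g ^ n • y = 0 := by
    intro g hg
    apply exists_pow_smul_eq_zero (hM g hg)
    intro y
    obtain ⟨n, hn⟩ := ht y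
    exact ⟨n, hn _ (Ideal.pow_mem_pow (Ideal.subset_span hg) n)⟩
  choose! n hn using h1
  refine ⟨s.card * (s.sup n) + 1, ?_⟩
  rw [eq_bot_iff]
  intro x hx
  obtain ⟨c, rfl⟩ := exists_sum_pow_smul s (s.sup n) x hx
  rw [Submodule.mem_bot]
  apply Finset.sum_eq_zero
  intro g hg
  have hle : n g ≤ s.sup n := Finset.le_sup hg
  rw [← Nat.sub_add_cancel hle, pow_add, mul_smul, hn g hg, smul_zero]

end Helper5.DMod
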